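import Cfsg.Agent.ODec24.Block

/-!
Odd dimension at least seven: without an element carrying a coordinate line to a coordinate line
an overgroup of the monomial group is monomial (helper35).

For a non-monomial product `x` of two reflections and a coordinate `e`, a commuting involution is
found in the dihedral group of `x` and the element negating all coordinates but `e`; it forces the
plane of `x` to contain a vector with two non-zero coordinates, whence a contradiction.
-/

set_option autoImplicit false
set_option linter.unusedSectionVars false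

namespace Cfsg.Agent.ODec35

open QuadraticMap Cfsg.Agent.UnitaryOrthogonal Cfsg.Agent.ODec24
open Finset hiding sup' mem_sup'
open scoped Matrix

variable {ι : Type} [Fintype ι] [DecidableEq ι] {F : Type*} [Field F] {p : ℕ}
variable {H : Subgroup (orth (sq ι F))}

/-- Changing an even number of signs. -/
theorem flips_mem (O : Over H) : ∀ W : Finset ι, Even W.card →
    ∃ y ∈ H, ∀ (x : ι → F) j, y.1 x j = if j ∈ W then -x j else x j := by
  intro W
  induction W using Finset.strongInduction with
  | H W ih =>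
    intro he
    rcases W.eq_empty_or_nonempty with rfl | ⟨a, ha⟩
    · exact ⟨1, one_mem _, fun x j => by simp⟩
    obtain ⟨k, hk⟩ := he
    have hpos := card_pos.mpr ⟨a, ha⟩
    obtain ⟨b, hb⟩ : (W.erase a).Nonempty := card_pos.mp (by rw [card_erase_of_mem ha]; omega)
    obtain ⟨y, hy, hy'⟩ := ih ((W.erase a).erase b)
      ((erase_ssubset hb).trans (erase_ssubset ha))
      ⟨k - 1, by rw [card_erase_of_mem hb, card_erase_of_mem ha]; omega⟩
    refine ⟨rf (sq ι F) (bv a) * rf (sq ι F) (bv b) * y, mul_mem (O.pair a b) hy, fun x j => ?_⟩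
    simp only [coe_mul_apply, rf_bv_apply, hy']
    rw [mem_erase] at hb
    by_cases j1 : j = a
    · subst j1; simp [ha, hb.1.symm]
    · by_cases j2 : j = b
      · subst j2; simp [j1, hb.2]
      · by_cases j3 : j ∈ W <;> simp [j1, j2, j3]

theorem mul_self_eq_one_of_smul {g : orth (sq ι F)} {a b : ι} {c : F}
    (h : g.1 (bv a) = c • bv b) : c * c = 1 := by
  have := map_form g (bv a : ι → F)
  rwa [h, form_smul, sq_bv, sq_bv, mul_one] at this

/-- Two involutions which are not conjugate: a commuting involution in the dihedral group. -/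
theorem exists_dihedral_pow' [Finite F] {x y : orth (sq ι F)} (hx : x * x = 1) (hy : y * y = 1)
    (ht : ∀ g : orth (sq ι F), g * x * g⁻¹ ≠ y) :
    ∃ m : ℕ, ((x * y) ^ m) * ((x * y) ^ m) = 1 ∧ (x * y) ^ m ≠ 1 ∧
      Commute x ((x * y) ^ m) ∧ Commute y ((x * y) ^ m) := by
  have : Finite ((ι → F) ≃ₗ[F] (ι → F)) := Finite.of_injective _ LinearEquiv.toEquiv_injective
  set r := x * y with hr
  have hxi : x⁻¹ = x := inv_eq_of_mul_eq_one_right hx
  have hyi : y⁻¹ = y := inv_eq_of_mul_eq_one_right hy
  have hxr : ∀ k : ℕ, x * r ^ k * x⁻¹ = (r ^ k)⁻¹ := fun k => by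
    rw [← conj_pow, show x * r * x⁻¹ = r⁻¹ by
      rw [hr, _root_.mul_inv_rev, hyi, hxi, ← mul_assoc, hx, one_mul], inv_pow]
  have hyr : ∀ k : ℕ, y * r ^ k * y⁻¹ = (r ^ k)⁻¹ := fun k => by
    rw [← conj_pow, show y * r * y⁻¹ = r⁻¹ by
      rw [hr, _root_.mul_inv_rev, hyi, hxi, mul_assoc, mul_assoc, hy, mul_one], inv_pow]
  have hd : r ^ orderOf r = 1 := pow_orderOf_eq_one r
  rcases Nat.even_or_odd (orderOf r) with ⟨m, hm⟩ | ⟨m, hm⟩
  · refine ⟨m, ?_, ?_, ?_, ?_⟩
    · rw [← pow_add, ← hm, hd]
    · intro h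
      have hpos : 0 < orderOf r := (isOfFinOrder_of_finite r).orderOf_pos
      have := Nat.le_of_dvd (by omega) (orderOf_dvd_of_pow_eq_one h)
      omega
    · have e : (r ^ m)⁻¹ = r ^ m := inv_eq_of_mul_eq_one_right (by rw [← pow_add, ← hm, hd])
      exact (mul_inv_eq_iff_eq_mul.mp ((hxr m).trans e))
    · have e : (r ^ m)⁻¹ = r ^ m := inv_eq_of_mul_eq_one_right (by rw [← pow_add, ← hm, hd])
      exact (mul_inv_eq_iff_eq_mul.mp ((hyr m).trans e))
  · exfalso
    refine ht (r ^ m) ?_
    have h2m : r ^ (2 * m) = r⁻¹ := eq_inv_of_mul_eq_one_left (by rw [← pow_succ, ← hm, hd])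
    rw [← hxr m, hxi]
    have : r ^ m * x * (x * r ^ m * x) = r ^ (2 * m) * x := by
      rw [two_mul, pow_add]
      simp only [mul_assoc]
      rw [← mul_assoc x x, hx, one_mul]
    rw [this, h2m, hr, _root_.mul_inv_rev, hyi, hxi, mul_assoc, hx, mul_one]

/-- Reflections in a vector with many coordinates and in the vector with two signs changed. -/
theorem flip_pair_false (P : PrimeOdd F p) {q : ι → F} (hqq : q ⬝ᵥ q ≠ 0) {a b i i' : ι}
    (hqj : ∀ j, j ≠ a → j ≠ b → q j ≠ 0) (hii : i' ≠ i) (hia : i ≠ a) (hib : i ≠ b) (hi'a : i' ≠ a)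
    (hi'b : i' ≠ b) (h7 : 7 ≤ Fintype.card ι)
    (hm : Mono (rf (sq ι F) q *
      rf (sq ι F) ((rf (sq ι F) (bv i) * rf (sq ι F) (bv i')).1 q))) : False := by
  classical
  have h2 := P.two_ne
  set h := rf (sq ι F) (bv i) * rf (sq ι F) (bv i') with hh
  have hhap : ∀ (y : ι → F) j, h.1 y j = if j = i ∨ j = i' then -y j else y j := fun y j => by
    simp only [hh, coe_mul_apply, rf_bv_apply]
    by_cases j1 : j = i
    · subst j1; simp [Ne.symm hii]
    · by_cases j2 : j = i'
      · subst j2; simp [j1]
      · simp [j1, j2]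
  set q' := h.1 q with hq'
  have hq'q : q' ⬝ᵥ q' = q ⬝ᵥ q := by rw [hq', dot_map h h2]
  obtain ⟨k, -, hk⟩ := exists_mem_notMem_of_card_lt_card (s := {a, b, i, i'}) (t := univ)
    (card_le_four.trans_lt (by rw [card_univ]; omega))
  simp only [mem_insert, mem_singleton, not_or] at hk
  obtain ⟨l, c, hl⟩ := hm k
  have hl' : (rf (sq ι F) q').1 (bv k) = c • (rf (sq ι F) q).1 (bv l) := by
    rw [← map_smul, ← hl, ← coe_mul_apply, ← mul_assoc, rf_mul_self, one_mul]
  rw [rf_sq_apply, rf_sq_apply, hq'q, dot_bv, dot_bv] at hl'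
  have hqk : q' k = q k := by rw [hq', hhap]; simp [hk.2.2.1, hk.2.2.2]
  rw [hqk] at hl'
  set lk := 2 * q k / (q ⬝ᵥ q) with hlk
  set ll := 2 * q l / (q ⬝ᵥ q) with hll
  have hlk0 : lk ≠ 0 := div_ne_zero (mul_ne_zero h2 (hqj k hk.1 hk.2.1)) hqq
  obtain ⟨m, -, hm'⟩ := exists_mem_notMem_of_card_lt_card
    (s := insert l (insert k {a, b, i, i'})) (t := univ) (by
      refine (card_insert_le _ _).trans_lt ?_
      have := (card_insert_le k ({a, b, i, i'} : Finset ι)).trans
        (Nat.succ_le_succ card_le_four)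
      rw [card_univ]; omega)
  simp only [mem_insert, mem_singleton, not_or] at hm'
  obtain ⟨hml, hmk, hma, hmb, hmi, hmi'⟩ := hm'
  have hq'm : q' m = q m := by rw [hq', hhap]; simp [hmi, hmi']
  have em := congrFun hl' m
  simp only [Pi.sub_apply, Pi.smul_apply, smul_eq_mul, hq'm, Pi.single_apply, if_neg hmk,
    if_neg hml] at em
  have e1 : lk = c * ll :=
    mul_right_cancel₀ (hqj m hma hmb) (by linear_combination -em)
  have at' : ∀ j, (j = i ∨ j = i') → j ≠ a → j ≠ b → j = l := by
    intro j hj hja hjb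
    by_contra hjl
    have hjk : j ≠ k := fun e => by
      rcases hj with h' | h'
      · exact hk.2.2.1 (e.symm.trans h')
      · exact hk.2.2.2 (e.symm.trans h')
    have hq'j : q' j = -q j := by rw [hq', hhap, if_pos hj]
    have ej := congrFun hl' j
    simp only [Pi.sub_apply, Pi.smul_apply, smul_eq_mul, hq'j, Pi.single_apply, if_neg hjk,
      if_neg hjl] at ej
    have : (2 * lk) * q j = 0 := by linear_combination ej + q j * e1
    exact mul_ne_zero (mul_ne_zero h2 hlk0) (hqj j hja hjb) this
  exact hii ((at' i' (Or.inr rfl) hi'a hi'b).trans (at' i (Or.inl rfl) hia hib).symm)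

variable (P : PrimeOdd F p) (O : Over H)
include P O

section Plane

variable {u v : ι → F} (hu : u ⬝ᵥ u = 1) (hv : v ⬝ᵥ v = 1) (huv : u ⬝ᵥ v = 0)

omit O in
include hu hv huv in
theorem dot_plane (a b c e : F) :
    (a • u + b • v) ⬝ᵥ (c • u + e • v) = a * c + b * e := by
  have hvu : v ⬝ᵥ u = 0 := by rw [dotProduct_comm, huv]
  simp only [add_dotProduct, dotProduct_add, smul_dotProduct, dotProduct_smul, smul_eq_mul,
    hu, hv, huv, hvu]
  ring

omit O in
include hu hv huv in
theorem plane_neg (a b : F) :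
    (rf (sq ι F) u * rf (sq ι F) v).1 (a • u + b • v) = -(a • u + b • v) := by
  have hvu : v ⬝ᵥ u = 0 := by rw [dotProduct_comm, huv]
  rw [pair_apply hu hv huv]
  simp only [dotProduct_add, dotProduct_smul, smul_eq_mul, hu, hv, huv, hvu]
  module

omit O in
include hu hv huv in
theorem pair_sq : (rf (sq ι F) u * rf (sq ι F) v) * (rf (sq ι F) u * rf (sq ι F) v) = 1 := by
  have hvu : v ⬝ᵥ u = 0 := by rw [dotProduct_comm, huv]
  refine orth_ext fun w => ?_
  rw [coe_mul_apply, pair_apply hu hv huv, pair_apply hu hv huv, coe_one_apply]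
  simp only [dotProduct_sub, dotProduct_smul, hu, hv, huv, hvu, smul_eq_mul]
  module

include hu hv huv in
/-- The plane of a non-monomial product of two reflections meets every coordinate. -/
theorem rows_ne (hNC : NC H univ) (hx : rf (sq ι F) u * rf (sq ι F) v ∈ H)
    (hnm : ¬ Mono (rf (sq ι F) u * rf (sq ι F) v)) (i : ι) : u i ≠ 0 ∨ v i ≠ 0 := by
  by_contra h
  simp only [not_or, not_not] at h
  exact hnm (mono_pair_of_zero P O hNC hx (fun j hj => absurd (mem_univ j) hj)
    (fun j hj => absurd (mem_univ j) hj) (mem_univ i) h.1 h.2)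

include hu hv huv in
/-- The plane contains no coordinate line. -/
theorem plane_two (hNC : NC H univ) (hx : rf (sq ι F) u * rf (sq ι F) v ∈ H)
    (hnm : ¬ Mono (rf (sq ι F) u * rf (sq ι F) v)) {α β : F} (hne : α • u + β • v ≠ 0) :
    2 ≤ (sup' (α • u + β • v)).card := by
  classical
  by_contra hlt
  obtain ⟨a, ha⟩ := Function.ne_iff.mp hne
  have hsub : ∀ j, j ≠ a → (α • u + β • v) j = 0 := fun j hj => by
    by_contra hne'
    have h2 : ({a, j} : Finset ι) ⊆ sup' (α • u + β • v) := by
      simp [insert_subset_iff, mem_sup']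
      exact ⟨by simpa using ha, by simpa using hne'⟩
    have := card_le_card h2
    rw [card_pair (Ne.symm hj)] at this
    omega
  set c := (α • u + β • v) a with hc
  have e : α • u + β • v = c • bv a := funext fun j => by
    by_cases hj : j = a
    · subst hj; simp [hc]
    · rw [hsub j hj]; simp [hj]
  have hc0 : c ≠ 0 := ha
  have h1 := plane_neg P hu hv huv α β
  rw [e, map_smul] at h1
  refine hnm (hNC _ hx (fun j hj => absurd (mem_univ j) hj) a (mem_univ a) a (-1) ?_)
  refine smul_right_injective (ι → F) hc0 ?_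
  show c • _ = c • ((-1 : F) • bv a)
  rw [h1, neg_one_smul, smul_neg]

include hu hv huv in
/-- The vector of the plane vanishing at `e` is short, or the plane has a short vector
orthogonal to it. -/
theorem key_line [Finite F] (h7 : 7 ≤ Fintype.card ι) (hodd : Odd (Fintype.card ι))
    (hNC : NC H univ) (hx : rf (sq ι F) u * rf (sq ι F) v ∈ H)
    (hnm : ¬ Mono (rf (sq ι F) u * rf (sq ι F) v)) (e : ι) :
    ((v e • u - u e • v) ⬝ᵥ (v e • u - u e • v) ≠ 0 ∧ (sup' (v e • u - u e • v)).card ≤ 2) ∨
      ∃ α β : F, (α • u + β • v) ⬝ᵥ (v e • u - u e • v) = 0 ∧ (α • u + β • v) e ≠ 0 ∧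
        (sup' (α • u + β • v)).card ≤ 3 := by
  classical
  have h2 := P.two_ne
  have hrow := rows_ne P O hu hv huv hNC hx hnm
  set x := rf (sq ι F) u * rf (sq ι F) v with hxdef
  have hxx : x * x = 1 := pair_sq P hu hv huv
  have hxw : ∀ y, u ⬝ᵥ y = 0 → v ⬝ᵥ y = 0 → x.1 y = y := fun y h1 h2' => by
    rw [hxdef, pair_apply hu hv huv, h1, h2']; simp
  obtain ⟨t, htH, ht⟩ := flips_mem O (univ.erase e) (by
    obtain ⟨k, hk⟩ := hodd
    exact ⟨k, by rw [card_erase_of_mem (mem_univ _), card_univ]; omega⟩)
  have htneg : ∀ y : ι → F, y e = 0 → t.1 y = -y := fun y hy => funext fun j => by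
    rw [ht]
    by_cases hj : j = e
    · subst hj; simp [hy]
    · simp [hj]
  have hte : t.1 (bv e) = bv e := funext fun j => by
    rw [ht]
    by_cases hj : j = e
    · subst hj; simp
    · simp [hj]
  have htt : t * t = 1 := orth_ext fun y => funext fun j => by
    rw [coe_mul_apply, ht, ht, coe_one_apply]
    by_cases hj : j ∈ univ.erase e <;> simp [hj]
  obtain ⟨m, hzz, hz1, hcx, hct⟩ := exists_dihedral_pow' hxx htt (by
    intro g hg
    rw [hxdef, show g * (rf (sq ι F) u * rf (sq ι F) v) * g⁻¹ =
        (g * rf (sq ι F) u * g⁻¹) * (g * rf (sq ι F) v * g⁻¹) by group, conj_rf, conj_rf] at hg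
    set u' := g.1 u
    set v' := g.1 v
    have hu' : u' ⬝ᵥ u' = 1 := by rw [dot_map g h2, hu]
    have hv' : v' ⬝ᵥ v' = 1 := by rw [dot_map g h2, hv]
    have huv' : u' ⬝ᵥ v' = 0 := by rw [dot_map g h2, huv]
    obtain ⟨a, -, ha⟩ := exists_mem_notMem_of_card_lt_card (s := {e}) (t := univ)
      (by simp; omega)
    obtain ⟨b, -, hb⟩ := exists_mem_notMem_of_card_lt_card (s := {e, a}) (t := univ)
      (card_le_two.trans_lt (by simp; omega))
    obtain ⟨c, -, hc⟩ := exists_mem_notMem_of_card_lt_card (s := {e, a, b}) (t := univ)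
      (card_le_three.trans_lt (by simp; omega))
    simp only [mem_insert, mem_singleton, not_or] at ha hb hc
    refine three_false (d₁ := bv a) (d₂ := bv b) (d₃ := bv c) (u := u') (v := v') (x₁ := a)
      (x₂ := b) (x₃ := c) (by simp) (by simp) (by simp) (by simp [Ne.symm hb.2])
      (by simp [Ne.symm hc.2.1]) (by simp [hb.2]) (by simp [Ne.symm hc.2.2])
      (by simp [hc.2.1]) (by simp [hc.2.2]) fun r s w h1 h2' => ?_
    rw [dotProduct_comm] at h1 h2'
    set y : ι → F := r • bv a + s • bv b + w • bv c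
    have e1 : t.1 y = -y := htneg y (by
      simp [y, Ne.symm ha, Ne.symm hb.1, Ne.symm hc.1])
    rw [← hg, pair_apply hu' hv' huv', h1, h2'] at e1
    simp at e1
    have : (2 : F) • y = 0 := by rw [two_smul]; nth_rewrite 1 [e1]; exact neg_add_cancel y
    exact (smul_eq_zero.mp this).resolve_left h2)
  set z := (x * t) ^ m with hz
  have hzH : z ∈ H := pow_mem (mul_mem hx htH) m
  set ε : F := (-1) ^ m with hεdef
  have hε : ε * ε = 1 := by rw [hεdef, ← mul_pow, neg_one_mul, neg_neg, one_pow]
  have hD : ∀ y : ι → F, u ⬝ᵥ y = 0 → v ⬝ᵥ y = 0 → y e = 0 → z.1 y = ε • y := fun y h1 h2' h3 =>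
    pow_apply_eigen (g := x * t) (by
      rw [coe_mul_apply, htneg y h3, map_neg, hxw y h1 h2', neg_one_smul]) m
  set w := v e • u - u e • v with hwdef
  have hwP : w = v e • u + (-u e) • v := by rw [hwdef]; module
  have hwe : w e = 0 := by simp [hwdef]; ring
  have hw0 : w ≠ 0 := fun h0 => by
    have h := dot_plane P hu hv huv (v e) (-u e) 1 0
    have h' := dot_plane P hu hv huv (v e) (-u e) 0 1
    rw [← hwP, h0, zero_dotProduct] at h h'
    simp at h h'
    exact (hrow e).elim (fun hh => hh h') (fun hh => hh h.symm)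
  have hzw : z.1 w = w := by
    have h := pow_apply_eigen (g := x * t) (w := w) (s := 1) (by
      rw [coe_mul_apply, htneg w hwe, map_neg, hwP, hxdef, plane_neg P hu hv huv, neg_neg,
        one_smul]) m
    rwa [one_pow, one_smul] at h
  have hz2 : ∀ y, z.1 (z.1 y) = y := fun y => by rw [← coe_mul_apply, hzz, coe_one_apply]
  -- `z` is monomial
  have hze : z.1 (bv e) = z.1 (bv e) e • bv e := by
    have e' : t.1 (z.1 (bv e)) = z.1 (bv e) := by
      rw [← coe_mul_apply, hct.eq, coe_mul_apply, hte]
    funext j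
    by_cases hj : j = e
    · subst hj; simp
    · have := congrFun e' j
      rw [ht, if_pos (mem_erase.mpr ⟨hj, mem_univ j⟩)] at this
      have : (2 : F) * z.1 (bv e) j = 0 := by linear_combination -this
      simp [hj, (mul_eq_zero.mp this).resolve_left h2]
  have hzm : Mono z := hNC z hzH (fun j hj => absurd (mem_univ j) hj) e (mem_univ e) e _ hze
  obtain ⟨π, μ, hπ, hμ⟩ := hzm.exists_perm h2
  have hinv := invol_perm hzz hπ hμ
  have hπe : π e = e := by
    by_contra hne
    have h := congrFun ((hπ e).symm.trans hze) (π e)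
    simp [hne] at h
    exact absurd (hμ e) (by rw [h]; simp)
  have hsym : ∀ a y, z.1 (bv a) ⬝ᵥ y = z.1 y a := fun a y => by
    have := dot_map z h2 (bv a) (z.1 y)
    rwa [hz2, bv_dot] at this
  -- the eigenvectors attached to coordinates
  set σ : F := -ε with hσdef
  have hσ : σ * σ = 1 := by rw [hσdef, neg_mul_neg, hε]
  set dd : ι → ι → F := fun a => bv a + σ • z.1 (bv a) with hdd
  have hddz : ∀ a, z.1 (dd a) = σ • dd a := fun a => by
    rw [hdd]
    simp only [map_add, map_smul, hz2, smul_add, smul_smul, hσ, one_smul]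
    abel
  have hdde : ∀ a, a ≠ e → dd a e = 0 := fun a ha => by
    have : π a ≠ e := fun h => ha (π.injective (h.trans hπe.symm))
    simp [hdd, hπ, Ne.symm ha, Ne.symm this]
  have hddx : ∀ a j, j ≠ a → j ≠ π a → dd a j = 0 := fun a j h1 h3 => by simp [hdd, hπ, h1, h3]
  have hddself : ∀ a, dd a a = 0 → dd a = 0 := fun a h0 => funext fun j => by
    by_cases hja : j = a
    · subst hja; exact h0
    by_cases hj : j = π a
    · exfalso
      subst hj
      simp [hdd, hπ, Ne.symm hja] at h0
    · exact hddx a j hja hj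
  have kill : ∀ y, z.1 y = σ • y → y e = 0 → u ⬝ᵥ y = 0 → v ⬝ᵥ y = 0 → y = 0 :=
    fun y h1 h2' h3 h4 => by
      have h5 := hD y h3 h4 h2'
      rw [h1, hσdef] at h5
      have : (2 * ε) • y = 0 := by
        have h6 : ε • y - (-ε) • y = 0 := sub_eq_zero.mpr h5.symm
        rw [← h6]; module
      refine (smul_eq_zero.mp this).resolve_left (mul_ne_zero h2 fun h => ?_)
      rw [h] at hε; simp at hε
  set U := univ.filter fun a => a ≠ e ∧ dd a a ≠ 0 with hU
  have suppσ : ∀ y, z.1 y = σ • y → sup' y ⊆ insert e U := fun y hy a ha => by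
    by_contra hcon
    rw [mem_sup'] at ha
    simp [hU] at hcon
    have h0 := hddself a (hcon.2 hcon.1)
    have h1 : dd a ⬝ᵥ y = 0 := by rw [h0, zero_dotProduct]
    rw [hdd, add_dotProduct, smul_dotProduct, bv_dot, hsym, hy, Pi.smul_apply, smul_eq_mul,
      smul_eq_mul, ← mul_assoc, hσ, one_mul] at h1
    exact ha ((mul_eq_zero.mp (show (2 : F) * y a = 0 by linear_combination h1)).resolve_left h2)
  -- an opposite vector in the plane leaves one class
  have single : ∀ α β : F, α • u + β • v ≠ 0 → z.1 (α • u + β • v) = -σ • (α • u + β • v) →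
      ∀ a ∈ U, U ⊆ {a, π a} := by
    intro α β hne hop a haU b hbU
    simp [hU] at haU hbU
    by_contra hcon
    simp only [mem_insert, mem_singleton, not_or] at hcon
    have za : dd b a = 0 := hddx b a (Ne.symm hcon.1) fun h => hcon.2 (by rw [h, hinv])
    have zb : dd a b = 0 := hddx a b hcon.1 hcon.2
    have comb : ∀ r s : F, r * (u ⬝ᵥ dd a) + s * (u ⬝ᵥ dd b) = 0 →
        r * (v ⬝ᵥ dd a) + s * (v ⬝ᵥ dd b) = 0 → r = 0 ∧ s = 0 := fun r s h1 h3 => by
      have h0 := kill (r • dd a + s • dd b)
        (by simp only [map_add, map_smul, hddz]; module)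
        (by simp [hdde a haU.1, hdde b hbU.1])
        (by rw [dotProduct_add, dotProduct_smul, dotProduct_smul]; exact h1)
        (by rw [dotProduct_add, dotProduct_smul, dotProduct_smul]; exact h3)
      have ea := congrFun h0 a
      have eb := congrFun h0 b
      simp [za, haU.2] at ea
      simp [zb, hbU.2] at eb
      exact ⟨ea, eb⟩
    have orthp : ∀ c, α * (u ⬝ᵥ dd c) + β * (v ⬝ᵥ dd c) = 0 := fun c => by
      have h := dot_map z h2 (α • u + β • v) (dd c)
      rw [hop, hddz, smul_dotProduct, dotProduct_smul, smul_eq_mul, smul_eq_mul, ← mul_assoc,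
        neg_mul, hσ, neg_one_mul] at h
      have h' : (α • u + β • v) ⬝ᵥ dd c = 0 :=
        (mul_eq_zero.mp (show (2 : F) * ((α • u + β • v) ⬝ᵥ dd c) = 0 by
          linear_combination -h)).resolve_left h2
      rwa [add_dotProduct, smul_dotProduct, smul_dotProduct, smul_eq_mul, smul_eq_mul] at h'
    have hdet : (u ⬝ᵥ dd a) * (v ⬝ᵥ dd b) - (u ⬝ᵥ dd b) * (v ⬝ᵥ dd a) = 0 := by
      by_contra hdet
      refine hne ?_
      have hα : α * ((u ⬝ᵥ dd a) * (v ⬝ᵥ dd b) - (u ⬝ᵥ dd b) * (v ⬝ᵥ dd a)) = 0 := by
        linear_combination (v ⬝ᵥ dd b) * orthp a - (v ⬝ᵥ dd a) * orthp b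
      have hβ : β * ((u ⬝ᵥ dd a) * (v ⬝ᵥ dd b) - (u ⬝ᵥ dd b) * (v ⬝ᵥ dd a)) = 0 := by
        linear_combination (u ⬝ᵥ dd a) * orthp b - (u ⬝ᵥ dd b) * orthp a
      rw [(mul_eq_zero.mp hα).resolve_right hdet, (mul_eq_zero.mp hβ).resolve_right hdet]
      simp
    have c1 := comb (u ⬝ᵥ dd b) (-(u ⬝ᵥ dd a)) (by ring) (by linear_combination -hdet)
    have c2 := comb (v ⬝ᵥ dd b) (-(v ⬝ᵥ dd a)) (by linear_combination hdet) (by ring)
    rw [neg_eq_zero] at c1 c2
    exact one_ne_zero (comb 1 0 (by rw [c1.2]; ring) (by rw [c2.2]; ring)).1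
  have hUle : ∀ α β : F, α • u + β • v ≠ 0 → z.1 (α • u + β • v) = -σ • (α • u + β • v) →
      U.card ≤ 2 := fun α β h1 h3 => by
    rcases U.eq_empty_or_nonempty with h | ⟨a, ha⟩
    · simp [h]
    · exact (card_le_card (single α β h1 h3 a ha)).trans card_le_two
  -- the opposite eigenvector
  have plane : ∀ y, x.1 y = -y → z.1 y = (u ⬝ᵥ z.1 y) • u + (v ⬝ᵥ z.1 y) • v := fun y hy =>
    mem_plane_iff h2 hu hv huv (by
      rw [← hxdef, ← coe_mul_apply, hcx.eq, coe_mul_apply, hy, map_neg])
  have hopp : (z.1 u = u ∧ z.1 v = v) ∨ ∃ α β : F, α • u + β • v ≠ 0 ∧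
      z.1 (α • u + β • v) = -(α • u + β • v) := by
    have hxu : x.1 u = -u := by rw [hxdef]; simpa using plane_neg P hu hv huv 1 0
    have hxv : x.1 v = -v := by rw [hxdef]; simpa using plane_neg P hu hv huv 0 1
    by_cases h : z.1 u = u
    · by_cases h' : z.1 v = v
      · exact Or.inl ⟨h, h'⟩
      refine Or.inr ⟨-(u ⬝ᵥ z.1 v), 1 - v ⬝ᵥ z.1 v, ?_, ?_⟩ <;>
        rw [show -(u ⬝ᵥ z.1 v) • u + (1 - v ⬝ᵥ z.1 v) • v = v - z.1 v by
          conv_rhs => rw [plane v hxv]
          module]
      · exact sub_ne_zero.mpr (Ne.symm h')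
      · rw [map_sub, hz2, neg_sub]
    · refine Or.inr ⟨1 - u ⬝ᵥ z.1 u, -(v ⬝ᵥ z.1 u), ?_, ?_⟩ <;>
        rw [show (1 - u ⬝ᵥ z.1 u) • u + -(v ⬝ᵥ z.1 u) • v = u - z.1 u by
          conv_rhs => rw [plane u hxu]
          module]
      · exact sub_ne_zero.mpr (Ne.symm h)
      · rw [map_sub, hz2, neg_sub]
  have hqw : ∀ α β : F, z.1 (α • u + β • v) = -(α • u + β • v) →
      (α • u + β • v) ⬝ᵥ w = 0 := fun α β h => by
    have h' := dot_map z h2 (α • u + β • v) w
    rw [h, hzw, neg_dotProduct] at h'
    exact (mul_eq_zero.mp (show (2 : F) * ((α • u + β • v) ⬝ᵥ w) = 0 by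
      linear_combination -h')).resolve_left h2
  rcases mul_self_eq_one_iff.mp hε with he | he
  · -- `z` fixes the common fixed space
    have hσ' : σ = -1 := by rw [hσdef, he]
    have hwop : z.1 (v e • u + (-u e) • v) = -σ • (v e • u + (-u e) • v) := by
      rw [← hwP, hzw, hσ', neg_neg, one_smul]
    rcases hopp with ⟨hzu, hzv⟩ | ⟨α, β, hne, hop⟩
    · exfalso
      have hall : ∀ a, a ≠ e → z.1 (bv a) = bv a := fun a ha => by
        have h0 : dd a = 0 := by
          refine kill _ (hddz a) (hdde a ha) ?_ ?_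
          · rw [hdd, dotProduct_comm, add_dotProduct, smul_dotProduct, bv_dot, hsym, hzu, hσ',
              smul_eq_mul]
            ring
          · rw [hdd, dotProduct_comm, add_dotProduct, smul_dotProduct, bv_dot, hsym, hzv, hσ',
              smul_eq_mul]
            ring
        rw [hdd] at h0
        simp only [hσ', neg_one_smul] at h0
        exact (eq_of_sub_eq_zero (by rw [sub_eq_add_neg]; exact h0)).symm
      have hzee : z.1 (bv e) = bv e := by
        rcases mul_self_eq_one_iff.mp (mul_self_eq_one_of_smul hze) with h | h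
        · rw [hze, h, one_smul]
        · exfalso
          have e1 := hsym e u
          have e2 := hsym e v
          rw [hze, h, neg_one_smul, neg_dotProduct, bv_dot, hzu] at e1
          rw [hze, h, neg_one_smul, neg_dotProduct, bv_dot, hzv] at e2
          exact (hrow e).elim
            (fun hh => hh ((mul_eq_zero.mp (show (2 : F) * u e = 0 by linear_combination -e1)).resolve_left h2))
            (fun hh => hh ((mul_eq_zero.mp (show (2 : F) * v e = 0 by linear_combination -e2)).resolve_left h2))
      refine hz1 (orth_ext fun y => funext fun j => ?_)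
      have := dot_map z h2 (bv j) y
      rw [show z.1 (bv j) = bv j by
        by_cases hj : j = e
        · rw [hj]; exact hzee
        · exact hall j hj, bv_dot, bv_dot] at this
      rw [this, coe_one_apply]
    refine Or.inr ⟨α, β, hqw α β hop, fun hq0 => ?_, ?_⟩
    · simp at hq0
      have e1 : v e • (α • u + β • v) = α • w := by
        rw [hwP, smul_add, smul_add, smul_smul, smul_smul, smul_smul, smul_smul,
          show v e * β = α * -u e by linear_combination hq0, mul_comm (v e) α]
      have e2 : u e • (α • u + β • v) = (-β) • w := by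
        rw [hwP, smul_add, smul_add, smul_smul, smul_smul, smul_smul, smul_smul,
          show u e * α = -β * v e by linear_combination hq0, show u e * β = -β * -u e by ring]
      have kk : ∀ c d : F, c • (α • u + β • v) = d • w → d = 0 := fun c d h => by
        have h' := congrArg z.1 h
        rw [map_smul, map_smul, hop, hzw, smul_neg, h] at h'
        have : (2 * d) • w = 0 := by
          have h6 : d • w - -(d • w) = 0 := sub_eq_zero.mpr h'.symm
          rw [← h6]; module
        exact ((mul_eq_zero.mp ((smul_eq_zero.mp this).resolve_right hw0)).resolve_left h2)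
      exact hne (by rw [kk _ _ e1, neg_eq_zero.mp (kk _ _ e2)]; simp)
    · have hs := suppσ _ (show z.1 (α • u + β • v) = σ • (α • u + β • v) by
        rw [hop, hσ', neg_one_smul])
      have := (card_le_card hs).trans (card_insert_le _ _)
      have := hUle _ _ (by rw [← hwP]; exact hw0) hwop
      omega
  · -- `z` negates the common fixed space
    have hσ' : σ = 1 := by rw [hσdef, he, neg_neg]
    rcases hopp with ⟨hzu, hzv⟩ | ⟨α, β, hne, hop⟩
    · exfalso
      have hU4 : U.card ≤ 4 := by
        by_contra h5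
        obtain ⟨a, ha⟩ := card_pos.mp (show 0 < U.card by omega)
        obtain ⟨b, hb, hb'⟩ := exists_mem_notMem_of_card_lt_card (s := {a, π a}) (t := U)
          (card_le_two.trans_lt (by omega))
        obtain ⟨c, hc, hc'⟩ := exists_mem_notMem_of_card_lt_card (s := {a, π a, b, π b}) (t := U)
          (card_le_four.trans_lt (by omega))
        simp only [mem_insert, mem_singleton, not_or] at hb' hc'
        simp only [hU, mem_filter, mem_univ, true_and] at ha hb hc
        have sw : ∀ {r s : ι}, s ≠ π r → r ≠ π s := fun {r s} hne e' => hne (by rw [e', hinv])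
        refine three_false (u := u) (v := v) ha.2 hb.2 hc.2
          (hddx b a (Ne.symm hb'.1) (sw hb'.2)) (hddx c a (Ne.symm hc'.1) (sw hc'.2.1))
          (hddx a b hb'.1 hb'.2) (hddx c b (Ne.symm hc'.2.2.1) (sw hc'.2.2.2))
          (hddx a c hc'.1 hc'.2.1) (hddx b c hc'.2.2.1 hc'.2.2.2) fun r s w' h1 h3 => ?_
        rw [dotProduct_comm] at h1 h3
        exact kill _ (by simp only [map_add, map_smul, hddz]; module)
          (by simp [hdde a ha.1, hdde b hb.1, hdde c hc.1]) h1 h3
      obtain ⟨j, -, hj⟩ := exists_mem_notMem_of_card_lt_card (s := insert e U) (t := univ)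
        ((card_insert_le _ _).trans_lt (by rw [card_univ]; omega))
      have zu : u j = 0 := by
        by_contra hh
        exact hj (suppσ u (by rw [hzu, hσ', one_smul]) (mem_sup'.mpr hh))
      have zv : v j = 0 := by
        by_contra hh
        exact hj (suppσ v (by rw [hzv, hσ', one_smul]) (mem_sup'.mpr hh))
      exact (hrow j).elim (fun h => h zu) (fun h => h zv)
    refine Or.inl ⟨fun h0 => ?_, ?_⟩
    · have hq := hqw α β hop
      rw [hwP, dot_plane P hu hv huv] at h0 hq
      have d1 : (α * -u e - β * v e) * -u e = 0 := by linear_combination α * h0 - v e * hq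
      have d2 : (α * -u e - β * v e) * v e = 0 := by linear_combination (-β) * h0 + (-u e) * hq
      have hdet : α * -u e - β * v e = 0 := by
        rcases hrow e with h | h
        · exact (mul_eq_zero.mp d1).resolve_right (neg_ne_zero.mpr h)
        · exact (mul_eq_zero.mp d2).resolve_right h
      have e1 : v e • (α • u + β • v) = α • w := by
        rw [hwP, smul_add, smul_add, smul_smul, smul_smul, smul_smul, smul_smul,
          show v e * β = α * -u e by linear_combination -hdet, mul_comm (v e) α]
      have e2 : u e • (α • u + β • v) = (-β) • w := by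
        rw [hwP, smul_add, smul_add, smul_smul, smul_smul, smul_smul, smul_smul,
          show u e * α = -β * v e by linear_combination -hdet, show u e * β = -β * -u e by ring]
      have kk : ∀ c d : F, c • (α • u + β • v) = d • w → d = 0 := fun c d h => by
        have h' := congrArg z.1 h
        rw [map_smul, map_smul, hop, hzw, smul_neg, h] at h'
        have : (2 * d) • w = 0 := by
          have h6 : d • w - -(d • w) = 0 := sub_eq_zero.mpr h'.symm
          rw [← h6]; module
        exact ((mul_eq_zero.mp ((smul_eq_zero.mp this).resolve_right hw0)).resolve_left h2)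
      exact hne (by rw [kk _ _ e1, neg_eq_zero.mp (kk _ _ e2)]; simp)
    · have hs : sup' w ⊆ U := fun j hj => by
        have := suppσ w (by rw [hzw, hσ', one_smul]) hj
        rw [mem_insert] at this
        refine this.resolve_left fun hje => ?_
        rw [mem_sup', hje] at hj
        exact hj hwe
      exact (card_le_card hs).trans (hUle α β hne (by rw [hop, hσ', neg_one_smul]))

include hu hv huv in
/-- Products of two reflections are monomial. -/
theorem pair_mono [Finite F] (h7 : 7 ≤ Fintype.card ι) (hodd : Odd (Fintype.card ι))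
    (hNC : NC H univ) (hx : rf (sq ι F) u * rf (sq ι F) v ∈ H) :
    Mono (rf (sq ι F) u * rf (sq ι F) v) := by
  classical
  have h2 := P.two_ne
  by_contra hnm
  have hrow := rows_ne P O hu hv huv hNC hx hnm
  have key := key_line P O hu hv huv h7 hodd hNC hx hnm
  have hwne : ∀ e, v e • u + (-u e) • v ≠ 0 := fun e h0 => by
    have h := dot_plane P hu hv huv (v e) (-u e) 1 0
    have h' := dot_plane P hu hv huv (v e) (-u e) 0 1
    rw [h0, zero_dotProduct] at h h'
    simp at h h'
    exact (hrow e).elim (fun hh => hh h') (fun hh => hh h.symm)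
  -- vectors vanishing at a coordinate are proportional
  have prop : ∀ (α β : F) (e : ι), (α • u + β • v) e = 0 →
      ∃ c : F, v e • u - u e • v = c • (α • u + β • v) ∨ α • u + β • v = 0 := by
    intro α β e h
    simp at h
    by_cases hα : α = 0
    · by_cases hβ : β = 0
      · exact ⟨0, Or.inr (by simp [hα, hβ])⟩
      · refine ⟨-u e / β, Or.inl ?_⟩
        rw [hα] at h
        simp [hβ] at h
        simp [hα, h, smul_smul, div_mul_cancel₀ _ hβ]
    · refine ⟨v e / α, Or.inl ?_⟩
      rw [smul_add, smul_smul, smul_smul, div_mul_cancel₀ _ hα,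
        show v e / α * β = -u e by field_simp; linear_combination h]
      module
  -- a short vector
  obtain ⟨α, β, hs0, hs3⟩ : ∃ α β : F, α • u + β • v ≠ 0 ∧ (sup' (α • u + β • v)).card ≤ 3 := by
    haveI : Nonempty ι := Fintype.card_pos_iff.mp (by omega)
    obtain ⟨e⟩ := ‹Nonempty ι›
    rcases key e with ⟨-, h⟩ | ⟨α, β, -, h1, h⟩
    · refine ⟨v e, -u e, hwne e, ?_⟩
      rw [show v e • u + (-u e) • v = v e • u - u e • v by module]
      omega
    · exact ⟨α, β, fun h0 => h1 (by rw [h0]; rfl), h⟩
  set s := α • u + β • v with hsdef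
  obtain ⟨e₁, -, he₁⟩ := exists_mem_notMem_of_card_lt_card (s := sup' s) (t := univ)
    (by rw [card_univ]; omega)
  rw [mem_sup', not_not] at he₁
  obtain ⟨c₁, hc₁⟩ := prop α β e₁ he₁
  replace hc₁ := hc₁.resolve_right hs0
  rw [← hsdef] at hc₁
  have hc₁0 : c₁ ≠ 0 := fun h0 => hwne e₁ (by
    rw [show v e₁ • u + (-u e₁) • v = v e₁ • u - u e₁ • v by module, hc₁, h0, zero_smul])
  have hsup : sup' (c₁ • s) = sup' s := by ext j; simp [mem_sup', hc₁0]
  -- two short vectors cover too few coordinates
  obtain ⟨hss, hs2⟩ : s ⬝ᵥ s ≠ 0 ∧ (sup' s).card ≤ 2 := by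
    rcases key e₁ with ⟨h1, h3⟩ | ⟨α', β', -, h1, h3⟩
    · rw [hc₁] at h1 h3
      rw [hsup] at h3
      exact ⟨fun h0 => h1 (by rw [dot_smul_self, h0, mul_zero]), h3⟩
    · exfalso
      obtain ⟨j, -, hj⟩ := exists_mem_notMem_of_card_lt_card
        (s := sup' s ∪ sup' (α' • u + β' • v)) (t := univ)
        ((card_union_le _ _).trans_lt (by rw [card_univ]; omega))
      simp only [mem_union, not_or, mem_sup', not_not] at hj
      obtain ⟨hj1, hj2⟩ := hj
      obtain ⟨d, hd⟩ := prop α β j hj1
      obtain ⟨d', hd'⟩ := prop α' β' j hj2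
      replace hd := hd.resolve_right hs0
      replace hd' := hd'.resolve_right fun h0 => h1 (by rw [h0]; rfl)
      have hd0 : d' ≠ 0 := fun h0 => hwne j (by
        rw [show v j • u + (-u j) • v = v j • u - u j • v by module, hd', h0, zero_smul])
      rw [← hsdef, hd'] at hd
      have := congrFun hd e₁
      simp only [Pi.smul_apply, smul_eq_mul] at this
      rw [show s e₁ = 0 from he₁, mul_zero] at this
      exact h1 ((mul_eq_zero.mp this).resolve_left hd0)
  have hsc : (sup' s).card = 2 := by
    have := plane_two P O hu hv huv hNC hx hnm hs0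
    rw [← hsdef] at this
    omega
  obtain ⟨a, b, hab, hsab⟩ := card_eq_two.mp hsc
  have hsout : ∀ j, j ≠ a → j ≠ b → s j = 0 := fun j h1 h3 => by
    by_contra hh
    have : j ∈ sup' s := mem_sup'.mpr hh
    simp [hsab, h1, h3] at this
  -- the partner
  set q := (-β) • u + α • v with hq
  have hsq : s ⬝ᵥ s = α * α + β * β := by rw [hsdef, dot_plane P hu hv huv]
  have hqq : q ⬝ᵥ q = α * α + β * β := by rw [hq, dot_plane P hu hv huv]; ring
  have hN : α * α + β * β ≠ 0 := hsq ▸ hss
  have hqj : ∀ j, j ≠ a → j ≠ b → q j ≠ 0 := fun j h1 h3 h0 => by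
    have hs' := hsout j h1 h3
    rw [hsdef] at hs'
    simp [hq] at hs' h0
    exact (hrow j).elim
      (fun hh => hh ((mul_eq_zero.mp (show (α * α + β * β) * u j = 0 by
        linear_combination α * hs' - β * h0)).resolve_left hN))
      (fun hh => hh ((mul_eq_zero.mp (show (α * α + β * β) * v j = 0 by
        linear_combination β * hs' + α * h0)).resolve_left hN))
  -- the partner vanishes on the pair
  have hqab : ∀ c, s c ≠ 0 → q c = 0 := by
    intro c hc
    set w := v c • u - u c • v with hw
    rcases key c with ⟨-, h⟩ | ⟨α', β', hperp, h1, h3⟩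
    · exfalso
      rw [← hw] at h
      obtain ⟨j, -, hj⟩ := exists_mem_notMem_of_card_lt_card (s := sup' s ∪ sup' w)
        (t := univ) ((card_union_le _ _).trans_lt (by rw [card_univ, hsc]; omega))
      simp only [mem_union, not_or, mem_sup', not_not] at hj
      obtain ⟨d, hd⟩ := prop α β j hj.1
      replace hd := hd.resolve_right hs0
      obtain ⟨d', hd'⟩ := prop (v c) (-u c) j (by rw [hw] at hj; simpa [sub_eq_add_neg] using hj.2)
      replace hd' := hd'.resolve_right (hwne c)
      have hd0 : d ≠ 0 := fun h0 => hwne j (by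
        rw [show v j • u + (-u j) • v = v j • u - u j • v by module, hd, h0, zero_smul])
      rw [← hsdef, hd'] at hd
      have := congrFun hd c
      simp at this
      rcases (show d * s c = 0 by linear_combination -this) |> mul_eq_zero.mp with h | h
      · exact hd0 h
      · exact hc h
    · -- the short vector is a multiple of `s`
      set s' := α' • u + β' • v with hs'def
      obtain ⟨j, -, hj⟩ := exists_mem_notMem_of_card_lt_card (s := sup' s ∪ sup' s')
        (t := univ) ((card_union_le _ _).trans_lt (by rw [card_univ, hsc]; omega))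
      simp only [mem_union, not_or, mem_sup', not_not] at hj
      obtain ⟨d, hd⟩ := prop α β j hj.1
      obtain ⟨d', hd'⟩ := prop α' β' j hj.2
      replace hd := hd.resolve_right hs0
      replace hd' := hd'.resolve_right fun h0 => h1 (by rw [hs'def, h0]; rfl)
      have hd0 : d ≠ 0 := fun h0 => hwne j (by
        rw [show v j • u + (-u j) • v = v j • u - u j • v by module, hd, h0, zero_smul])
      rw [← hs'def, hd, ← hsdef] at hd'
      have hsw : s ⬝ᵥ w = 0 := by
        have : (d • s) ⬝ᵥ w = 0 := by rw [hd', smul_dotProduct, hperp, smul_zero]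
        rw [smul_dotProduct, smul_eq_mul] at this
        exact (mul_eq_zero.mp this).resolve_left hd0
      rw [hsdef, hw, show v c • u - u c • v = v c • u + (-u c) • v by module,
        dot_plane P hu hv huv] at hsw
      simp [hq]
      linear_combination hsw
  have hqa : q a = 0 := hqab a (mem_sup'.mp (by rw [hsab]; simp))
  have hqb : q b = 0 := hqab b (mem_sup'.mp (by rw [hsab]; simp))
  -- three coordinates outside the pair
  obtain ⟨i, -, hi⟩ := exists_mem_notMem_of_card_lt_card (s := {a, b}) (t := univ)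
    (card_le_two.trans_lt (by rw [card_univ]; omega))
  obtain ⟨i', -, hi'⟩ := exists_mem_notMem_of_card_lt_card (s := {a, b, i}) (t := univ)
    (card_le_three.trans_lt (by rw [card_univ]; omega))
  simp only [mem_insert, mem_singleton, not_or] at hi hi'
  set h := rf (sq ι F) (bv i) * rf (sq ι F) (bv i') with hh
  have hhap : ∀ (y : ι → F) j, h.1 y j = if j = i ∨ j = i' then -y j else y j := fun y j => by
    simp only [hh, coe_mul_apply, rf_bv_apply]
    by_cases j1 : j = i
    · subst j1; simp [Ne.symm hi'.2.2]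
    · by_cases j2 : j = i'
      · subst j2; simp [j1]
      · simp [j1, j2]
  have hhs : h.1 s = s := funext fun j => by
    rw [hhap]
    by_cases hj : j = i ∨ j = i'
    · have hja : j ≠ a ∧ j ≠ b := by
        rcases hj with h | h <;> subst h
        exacts [hi, ⟨hi'.1, hi'.2.1⟩]
      rw [if_pos hj, hsout j hja.1 hja.2, neg_zero]
    · rw [if_neg hj]
  set q' := h.1 q with hq'
  have hq'q : q' ⬝ᵥ q' = α * α + β * β := by rw [hq', dot_map h h2, hqq]
  -- the product of two reflections in `H`
  have hxq : rf (sq ι F) u * rf (sq ι F) v = rf (sq ι F) s * rf (sq ι F) q := orth_ext fun y => by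
    have hqs : q ⬝ᵥ s = 0 := by rw [hsdef, hq, dot_plane P hu hv huv]; ring
    rw [pair_apply hu hv huv, coe_mul_apply, rf_sq_apply, rf_sq_apply q, dotProduct_sub,
      dotProduct_smul, dotProduct_comm s q, hqs, smul_zero, sub_zero, hsq, hqq]
    simp only [hsdef, hq, add_dotProduct, smul_dotProduct, smul_eq_mul]
    have n1 : α ^ 2 + β ^ 2 ≠ 0 := by rw [pow_two, pow_two]; exact hN
    have n2 : β ^ 2 + α ^ 2 ≠ 0 := by rw [add_comm]; exact n1
    match_scalars <;> field_simp [hN, n1, n2] <;> ring
  have hcomm : rf (sq ι F) s * rf (sq ι F) q = rf (sq ι F) q * rf (sq ι F) s := by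
    have := conj_rf (rf (sq ι F) q) s
    rw [rf_apply_of_polar (x := s) (by
      rw [polar_sq, hsdef, hq, dot_plane P hu hv huv]; ring), mul_inv_eq_iff_eq_mul] at this
    exact this.symm
  have hmem : rf (sq ι F) q * rf (sq ι F) q' ∈ H := by
    have h1 := mul_mem hx (mul_mem (mul_mem (O.pair i i') hx) (inv_mem (O.pair i i')))
    rw [hxq, ← hh, show h * (rf (sq ι F) s * rf (sq ι F) q) * h⁻¹ =
        (h * rf (sq ι F) s * h⁻¹) * (h * rf (sq ι F) q * h⁻¹) by group, conj_rf, conj_rf, hhs,
      ← hq', hcomm] at h1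
    rwa [mul_assoc, ← mul_assoc (rf (sq ι F) s), rf_mul_self, one_mul] at h1
  have hm : Mono (rf (sq ι F) q * rf (sq ι F) q') := mono_pair_of_zero P O hNC hmem
    (fun j hj => absurd (mem_univ j) hj) (fun j hj => absurd (mem_univ j) hj) (mem_univ a)
    hqa (by rw [hq', hhap, hqa]; simp)
  exact flip_pair_false P (hqq.symm ▸ hN) hqj hi'.2.2 hi.1 hi.2 hi'.1 hi'.2.1
    h7 hm

end Plane

/-- Without coordinate images every element is monomial. -/
theorem all_mono_odd [Finite F] (h7 : 7 ≤ Fintype.card ι) (hodd : Odd (Fintype.card ι))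
    (hNC : NC H univ) {g : orth (sq ι F)} (hg : g ∈ H) : Mono g := by
  classical
  have h2 := P.two_ne
  by_contra hgm
  set f : ι → ι → F := fun a => g.1 (bv a) with hf
  have hff : ∀ a b, f a ⬝ᵥ f b = if a = b then 1 else 0 := fun a b => by
    show g.1 (bv a) ⬝ᵥ g.1 (bv b) = _
    rw [dot_map g h2, bv_dot]; simp [Pi.single_apply]
  have hnz : ∀ a, f a ⬝ᵥ f a ≠ 0 := fun a => by rw [hff, if_pos rfl]; exact one_ne_zero
  have hdot : ∀ a b, a ≠ b → f a ⬝ᵥ f b = 0 := fun a b hab => by rw [hff, if_neg hab]
  have hsup : ∀ a b, a ≠ b → (sup' (f a) ∪ sup' (f b)).card ≤ 4 ∧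
      ((sup' (f a) ∪ sup' (f b)).card = 4 → (sup' (f a)).card ≠ 3) := fun a b hab =>
    support_pair h2 (hnz a) (hnz b) (hdot a b hab)
      (pair_mono P O (by rw [hff, if_pos rfl]) (by rw [hff, if_pos rfl]) (hdot a b hab) h7 hodd hNC
        (conj_pair_mem P O hg a b))
  have small : ∀ a, (sup' (f a)).card ≤ 2 := by
    intro a
    by_contra hbig
    have hsub : ∀ b ∈ (univ : Finset ι), sup' (f b) ⊆ sup' (f a) := by
      intro b _
      by_cases hab : a = b
      · rw [hab]
      obtain ⟨h4, h43⟩ := hsup a b hab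
      have hle := card_le_card (subset_union_left : sup' (f a) ⊆ sup' (f a) ∪ sup' (f b))
      have heq : sup' (f a) ∪ sup' (f b) = sup' (f a) := by
        refine (eq_of_subset_of_card_le subset_union_left ?_).symm
        by_cases h : (sup' (f a) ∪ sup' (f b)).card = 4
        · have := h43 h; omega
        · omega
      exact heq ▸ subset_union_right
    obtain ⟨b, hb⟩ := exists_notMem (n := 1) (by omega) {a} (by simp)
    have h4 := (hsup a b (fun e => hb (by simp [e]))).1
    have := card_cols_le P (g := g) hsub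
    have hle := card_le_card (subset_union_left : sup' (f a) ⊆ sup' (f a) ∪ sup' (f b))
    rw [card_univ] at this
    omega
  have two : ∀ a, (sup' (f a)).card = 2 := fun a => by
    refine le_antisymm (small a) ?_
    by_contra hlt
    obtain ⟨b, hb⟩ : ∃ b, f a b ≠ 0 := by
      by_contra h
      simp only [not_exists, not_not] at h
      exact hnz a (by rw [show f a = 0 from funext h, zero_dotProduct])
    refine hgm (hNC g hg (fun j hj => absurd (mem_univ j) hj) a (mem_univ a) b (f a b)
      (funext fun j => ?_))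
    by_cases hj : j = b
    · subst hj; simp [hf]
    · simp [hj]
      by_contra hne
      have h2' : ({b, j} : Finset ι) ⊆ sup' (f a) := by
        simp [insert_subset_iff, mem_sup', hb]
        exact hne
      have := card_le_card h2'
      rw [card_pair (Ne.symm hj)] at this
      omega
  have eqsup : ∀ a b x, x ∈ sup' (f a) → x ∈ sup' (f b) → sup' (f a) = sup' (f b) := by
    intro a b x hxa hxb
    by_cases hab : a = b
    · rw [hab]
    by_contra hne
    have hint : sup' (f a) ∩ sup' (f b) = {x} := by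
      refine (eq_of_subset_of_card_le (by simp [hxa, hxb]) ?_).symm
      rw [card_singleton]
      by_contra h1
      refine hne (eq_of_subset_of_card_le (inter_eq_left.mp ?_) (by rw [two, two]))
      exact eq_of_subset_of_card_le inter_subset_left (by rw [two a]; omega)
    have e := hdot a b hab
    rw [dotProduct, Finset.sum_eq_single x (fun j _ hj => by
      by_contra h0
      rw [mul_eq_zero, not_or] at h0
      have : j ∈ sup' (f a) ∩ sup' (f b) :=
        mem_inter.mpr ⟨mem_sup'.mpr h0.1, mem_sup'.mpr h0.2⟩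
      rw [hint, mem_singleton] at this
      exact hj this) (by simp)] at e
    rw [mem_sup'] at hxa hxb
    exact mul_ne_zero hxa hxb e
  set K := univ.image fun a => sup' (f a) with hK
  have hcover : K.biUnion id = univ := eq_univ_of_forall fun j => by
    by_contra hj
    simp [hK] at hj
    have h0 : ∀ a, f a j = 0 := fun a => by
      by_contra h; exact hj a (mem_sup'.mpr h)
    obtain ⟨y, hy⟩ := g.1.surjective (bv j)
    have := congrFun hy j
    rw [pi_eq_sum_univ' y, map_sum] at this
    simp only [map_smul, Finset.sum_apply, Pi.smul_apply, smul_eq_mul] at this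
    simp [show ∀ a, g.1 (Pi.single a 1) j = 0 from h0] at this
  have hcard : (K.biUnion id).card = 2 * K.card := by
    rw [card_biUnion, sum_const_nat fun S hS => ?_, mul_comm]
    · simp [hK] at hS
      obtain ⟨a, rfl⟩ := hS
      exact two a
    · intro S hS T hT hST
      simp [hK] at hS hT
      obtain ⟨a, rfl⟩ := hS
      obtain ⟨b, rfl⟩ := hT
      exact disjoint_left.mpr fun x hxa hxb => hST (eqsup a b x hxa hxb)
  rw [hcover, card_univ] at hcard
  obtain ⟨k, hk⟩ := hodd
  omega

end Cfsg.Agent.ODec35
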