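import Cfsg.Agent.ODec24.Root
import Cfsg.Agent.ODec24.Block

/-!
From a unit vector of `R` with one vanishing coordinate to a star, in dimension at least seven
(helper35).

Two vectors `u, v` of `R` generate a dihedral group; either the product of the reflections in
`u + v` and `u - v` lies in the overgroup, or one of these two vectors is a multiple of a vector
of `R`. With `v` obtained from `u` by changing three signs this lowers the support.
-/

set_option autoImplicit false
set_option linter.unusedSectionVars false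

namespace Cfsg.Agent.ODec35

open Cfsg.Agent.UnitaryOrthogonal Cfsg.Agent.ODec24
open QuadraticMap hiding sq sq_apply
open Finset hiding sup' mem_sup'
open scoped Matrix

variable {ι : Type} [Fintype ι] [DecidableEq ι] {F : Type*} [Field F] {p : ℕ}

theorem dot_unit {H : Subgroup (orth (sq ι F))} {u : ι → F} (hu : u ∈ Rset H) : u ⬝ᵥ u = 1 := by
  rw [← sq_apply, hu.1]

variable {H : Subgroup (orth (sq ι F))} (P : PrimeOdd F p) (O : Over H)
include P O

/-- Two vectors of `R`. -/
theorem dihedral_two [Finite F] {u v : ι → F} (hu : u ∈ Rset H) (hv : v ∈ Rset H)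
    (hf : (u ⬝ᵥ v) * (u ⬝ᵥ v) ≠ 1) :
    rf (sq ι F) (u + v) * rf (sq ι F) (u - v) ∈ H ∨
      ∃ w ∈ Rset H, ∃ c : F, w = c • (u + v) ∨ w = c • (u - v) := by
  classical
  have : Finite ((ι → F) ≃ₗ[F] (ι → F)) := Finite.of_injective _ LinearEquiv.toEquiv_injective
  have h2 := P.two_ne
  have huu := dot_unit hu
  have hvv := dot_unit hv
  have hvu : v ⬝ᵥ u = u ⬝ᵥ v := dotProduct_comm v u
  set f := u ⬝ᵥ v with hfdef
  set A := rf (sq ι F) u with hA
  set B := rf (sq ι F) v with hB
  have hAA : A * A = 1 := rf_mul_self _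
  have hBB : B * B = 1 := rf_mul_self _
  have hAi : A⁻¹ = A := rf_inv _
  have hBi : B⁻¹ = B := rf_inv _
  set ρ := A * B with hρ
  have hρH : ρ ∈ H := O.rf_mul_rf hu hv
  have hAk : ∀ k : ℕ, A * ρ ^ k * A = (ρ ^ k)⁻¹ := fun k => by
    have h := (conj_pow (a := A) (b := ρ) (i := k)).symm
    rw [hAi] at h
    rw [h, show A * ρ * A = ρ⁻¹ by
      rw [hρ, _root_.mul_inv_rev, hAi, hBi, ← mul_assoc, hAA, one_mul], inv_pow]
  have hBk : ∀ k : ℕ, B * ρ ^ k * B = (ρ ^ k)⁻¹ := fun k => by
    have h := (conj_pow (a := B) (b := ρ) (i := k)).symm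
    rw [hBi] at h
    rw [h, show B * ρ * B = ρ⁻¹ by
      rw [hρ, _root_.mul_inv_rev, hAi, hBi, mul_assoc, mul_assoc, hBB, mul_one], inv_pow]
  have hR : ∀ i : ℕ, (ρ ^ i).1 u ∈ Rset H := fun i => by
    induction i with
    | zero => simpa using hu
    | succ i ih =>
      rw [pow_succ', coe_mul_apply, hρ, coe_mul_apply]
      exact O.refl_mem_R hu (O.refl_mem_R hv ih)
  -- a unit vector is determined up to sign by its reflection
  have line : ∀ x y : ι → F, x ⬝ᵥ x = 1 → y ⬝ᵥ y = 1 → rf (sq ι F) x = rf (sq ι F) y →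
      ∃ d : F, d * d = 1 ∧ y = d • x := by
    intro x y hx hy e
    have h := congrArg (fun g : orth (sq ι F) => g.1 y) e
    rw [rf_unit_apply (by rw [sq_apply, hx]), rf_apply_self (by rw [sq_apply, hy]; exact one_ne_zero)]
      at h
    have hy' : y = (x ⬝ᵥ y) • x := by
      refine smul_right_injective (ι → F) h2 ?_
      show (2 : F) • y = (2 : F) • ((x ⬝ᵥ y) • x)
      rw [smul_smul, two_smul]
      nth_rewrite 2 [show y = -(y - (2 * (x ⬝ᵥ y)) • x) by rw [h, neg_neg]]
      module
    refine ⟨x ⬝ᵥ y, ?_, hy'⟩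
    conv_rhs => rw [← hy]
    conv_rhs => rw [hy', dot_smul_self, hx, mul_one]
  have hd : ρ ^ orderOf ρ = 1 := pow_orderOf_eq_one ρ
  rcases Nat.even_or_odd (orderOf ρ) with ⟨m, hm⟩ | ⟨m, hm⟩
  · left
    set z := ρ ^ m with hz
    have hzz : z * z = 1 := by rw [hz, ← pow_add, ← hm, hd]
    have hz1 : z ≠ 1 := fun h => by
      have hpos : 0 < orderOf ρ := (isOfFinOrder_of_finite ρ).orderOf_pos
      have := Nat.le_of_dvd (by omega) (orderOf_dvd_of_pow_eq_one h)
      omega
    have hzi : z⁻¹ = z := inv_eq_of_mul_eq_one_right hzz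
    have hzH : z ∈ H := pow_mem hρH m
    have sgn : ∀ (C : orth (sq ι F)) (x : ι → F), x ⬝ᵥ x = 1 → C = rf (sq ι F) x →
        C * z * C = z⁻¹ → z.1 x = x ∨ z.1 x = -x := by
      intro C x hx hC hCz
      have e : rf (sq ι F) (z.1 x) = rf (sq ι F) x := by
        rw [← conj_rf, ← hC]
        have hCC : C * C = 1 := by rw [hC]; exact rf_mul_self _
        calc z * C * z⁻¹ = z * C * (C * z * C) := by rw [hCz]
          _ = C := by simp only [← mul_assoc]; rw [mul_assoc z C C, hCC, mul_one, hzz, one_mul]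
      obtain ⟨d, hdd, hdx⟩ := line _ _ hx (by rw [dot_map z h2, hx]) e.symm
      rcases mul_self_eq_one_iff.mp hdd with h | h
      · left; rw [hdx, h, one_smul]
      · right; rw [hdx, h, neg_one_smul]
    have su := sgn A u huu hA (hAk m)
    have sv := sgn B v hvv hB (hBk m)
    have hfix : ∀ y, u ⬝ᵥ y = 0 → v ⬝ᵥ y = 0 → z.1 y = y := fun y h1 h3 => by
      have h := pow_apply_eigen (g := ρ) (w := y) (s := 1) (by
        rw [hρ, coe_mul_apply, hB, rf_unit_apply hv.1, h3, mul_zero, zero_smul, sub_zero, hA,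
          rf_unit_apply hu.1, h1, mul_zero, zero_smul, sub_zero, one_smul]) m
      rwa [one_pow, one_smul] at h
    have hD : 1 - f * f ≠ 0 := sub_ne_zero.mpr (Ne.symm hf)
    have hD' : 1 - f ^ 2 ≠ 0 := by rwa [pow_two]
    have ext' : ∀ g g' : orth (sq ι F), g.1 u = g'.1 u → g.1 v = g'.1 v →
        (∀ y, u ⬝ᵥ y = 0 → v ⬝ᵥ y = 0 → g.1 y = g'.1 y) → g = g' := by
      intro g g' e1 e2 e3
      refine orth_ext fun y => ?_
      set α := ((u ⬝ᵥ y) - f * (v ⬝ᵥ y)) / (1 - f * f) with hα
      set β := ((v ⬝ᵥ y) - f * (u ⬝ᵥ y)) / (1 - f * f) with hβ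
      have hy : y = α • u + β • v + (y - α • u - β • v) := by abel
      have p1 : u ⬝ᵥ (y - α • u - β • v) = 0 := by
        simp only [dotProduct_sub, dotProduct_smul, smul_eq_mul, huu, ← hfdef, hα, hβ]
        field_simp [hD, hD']
        ring
      have p2 : v ⬝ᵥ (y - α • u - β • v) = 0 := by
        simp only [dotProduct_sub, dotProduct_smul, smul_eq_mul, hvv, hvu, hα, hβ]
        field_simp [hD, hD']
        ring
      rw [hy, map_add, map_add, map_add, map_add, map_smul, map_smul, map_smul, map_smul, e1, e2,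
        e3 _ p1 p2]
    have hzdet := congrArg Units.val (O.det z hzH)
    have bad : ∀ (x : ι → F), x ⬝ᵥ x = 1 → z = rf (sq ι F) x → False := fun x hx e => by
      rw [e, dt_rf _ (by rw [sq_apply, hx]; exact one_ne_zero)] at hzdet
      simp at hzdet
      exact h2 (by linear_combination -hzdet)
    have hpol : z.1 u ⬝ᵥ z.1 v = f := dot_map z h2 u v
    have zero_f : ∀ x y : F, x = -y → x = y → x = 0 := fun x y h1 h3 =>
      (mul_eq_zero.mp (show (2 : F) * x = 0 by linear_combination h1 + h3)).resolve_left h2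
    rcases su with su | su <;> rcases sv with sv | sv
    · exact absurd (ext' z 1 (by rw [su, coe_one_apply]) (by rw [sv, coe_one_apply])
        fun y h1 h3 => by rw [hfix y h1 h3, coe_one_apply]) hz1
    · exfalso
      rw [su, sv, dotProduct_neg, ← hfdef] at hpol
      have hf0 : f = 0 := zero_f f f hpol.symm rfl
      refine bad v hvv (ext' z B ?_ ?_ fun y h1 h3 => ?_)
      · rw [su, hB, rf_unit_apply hv.1, hvu, hf0, mul_zero, zero_smul, sub_zero]
      · rw [sv, hB, rf_apply_self (by rw [hv.1]; exact one_ne_zero)]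
      · rw [hfix y h1 h3, hB, rf_unit_apply hv.1, h3, mul_zero, zero_smul, sub_zero]
    · exfalso
      rw [su, sv, neg_dotProduct, ← hfdef] at hpol
      have hf0 : f = 0 := zero_f f f hpol.symm rfl
      refine bad u huu (ext' z A ?_ ?_ fun y h1 h3 => ?_)
      · rw [su, hA, rf_apply_self (by rw [hu.1]; exact one_ne_zero)]
      · rw [sv, hA, rf_unit_apply hu.1, ← hfdef, hf0, mul_zero, zero_smul, sub_zero]
      · rw [hfix y h1 h3, hA, rf_unit_apply hu.1, h1, mul_zero, zero_smul, sub_zero]
    · have hp : (u + v) ⬝ᵥ (u + v) = 2 * (1 + f) := by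
        simp only [add_dotProduct, dotProduct_add, huu, hvv, hvu, ← hfdef]; ring
      have hq : (u - v) ⬝ᵥ (u - v) = 2 * (1 - f) := by
        simp only [sub_dotProduct, dotProduct_sub, huu, hvv, hvu, ← hfdef]; ring
      have hp1 : 1 + f ≠ 0 := fun h => hf (by linear_combination (f - 1) * h)
      have hq1 : 1 - f ≠ 0 := fun h => hf (by linear_combination -(f + 1) * h)
      have e : z = rf (sq ι F) (u + v) * rf (sq ι F) (u - v) := by
        refine ext' z _ ?_ ?_ fun y h1 h3 => ?_
        · rw [su, coe_mul_apply, rf_sq_apply (u - v), hq, sub_dotProduct, huu, hvu,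
            mul_div_mul_left _ _ h2, div_self hq1, one_smul,
            show u - (u - v) = v by abel, rf_sq_apply, hp, add_dotProduct, hvv, ← hfdef,
            add_comm f 1, mul_div_mul_left _ _ h2, div_self hp1, one_smul]
          abel
        · rw [sv, coe_mul_apply, rf_sq_apply (u - v), hq, sub_dotProduct, hvv, ← hfdef,
            mul_div_mul_left _ _ h2, show (f - 1) / (1 - f) = (-1 : F) by field_simp; ring,
            neg_one_smul, sub_neg_eq_add, show v + (u - v) = u by abel, rf_sq_apply, hp,
            add_dotProduct, huu, hvu, mul_div_mul_left _ _ h2, div_self hp1, one_smul]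
          abel
        · rw [hfix y h1 h3, coe_mul_apply, rf_sq_apply (u - v), sub_dotProduct, h1, h3, sub_zero,
            mul_zero, zero_div, zero_smul, sub_zero, rf_sq_apply, add_dotProduct, h1, h3, add_zero,
            mul_zero, zero_div, zero_smul, sub_zero]
      exact e ▸ hzH
  · right
    set w := (ρ ^ (m * (m + 1))).1 u with hw
    have hww : w ∈ Rset H := hR _
    have hAinv : ∀ i : ℕ, A * (ρ ^ i)⁻¹ = ρ ^ i * A := fun i => by
      rw [← hAk i, ← mul_assoc, ← mul_assoc, hAA, one_mul]
    have hT : rf (sq ι F) w = ρ ^ m * A := by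
      rw [hw, ← conj_rf, ← hA, mul_assoc, hAinv, ← mul_assoc, ← pow_add,
        show m * (m + 1) + m * (m + 1) = m + orderOf ρ * m by rw [hm]; ring, pow_add, pow_mul, hd,
        one_pow, mul_one]
    have hTu : rf (sq ι F) ((rf (sq ι F) w).1 u) = B := by
      have h2m : ρ ^ (m + m) = ρ⁻¹ := eq_inv_of_mul_eq_one_left (by
        rw [← pow_succ, show m + m + 1 = orderOf ρ by omega, hd])
      rw [← conj_rf, hT, ← hA, _root_.mul_inv_rev, hAi, mul_assoc (ρ ^ m) A A, hAA, mul_one,
        hAinv, ← mul_assoc, ← pow_add, h2m, hρ, _root_.mul_inv_rev, hAi, hBi, mul_assoc, hAA,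
        mul_one]
    obtain ⟨d, hdd, hdv⟩ := line _ v (by rw [dot_map _ h2, huu]) hvv hTu
    rw [rf_unit_apply hww.1] at hdv
    set a := 2 * (w ⬝ᵥ u) with ha
    have key : u - d • v = a • w := by
      rw [hdv, smul_smul, hdd, one_smul]; abel
    have ha0 : a ≠ 0 := fun h0 => by
      rw [h0, zero_smul, sub_eq_zero] at key
      have : f = d := by rw [hfdef, key, smul_dotProduct, hvv, smul_eq_mul, mul_one]
      exact hf (by rw [this]; exact hdd)
    refine ⟨w, hww, a⁻¹, ?_⟩
    rcases mul_self_eq_one_iff.mp hdd with h | h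
    · right
      rw [h, one_smul] at key
      rw [key, smul_smul, inv_mul_cancel₀ ha0, one_smul]
    · left
      rw [h, neg_one_smul, sub_neg_eq_add] at key
      rw [key, smul_smul, inv_mul_cancel₀ ha0, one_smul]

omit P in
/-- Changing the signs in a set keeps `R`. -/
theorem flips_mem_R {u : ι → F} (hu : u ∈ Rset H) (S : Finset ι) :
    (fun j => if j ∈ S then -u j else u j) ∈ Rset H := by
  induction S using Finset.induction_on with
  | empty => simpa using hu
  | insert a S ha ih =>
    convert O.flip_mem_R ih a using 1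
    funext j
    rw [rf_bv_apply]
    by_cases hj : j = a
    · subst hj; simp [ha]
    · simp [hj]

omit P in
theorem sup_of_eq {u w : ι → F} {S : Finset ι} (h : ∀ j, w j ≠ 0 ↔ j ∈ S ∧ u j ≠ 0)
    (hS : S ⊆ sup' u) : sup' w = S := by
  ext j
  rw [mem_sup', h]
  exact ⟨And.left, fun hj => ⟨hj, mem_sup'.mp (hS hj)⟩⟩

/-- Three coordinates of the support, or the others. -/
theorem split3 [Finite F] {u : ι → F} (hu : u ∈ Rset H) {l : ι} (hl : u l = 0) {S : Finset ι}
    (hS : S ⊆ sup' u) (hS3 : S.card = 3) :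
    ∃ w ∈ Rset H, sup' w = S ∨
      ∃ k : F, k ≠ 0 ∧ ∀ j, w j = k * if j ∈ S then 0 else u j := by
  classical
  have h2 := P.two_ne
  have huu := dot_unit hu
  set A : ι → F := fun j => if j ∈ S then u j else 0 with hA
  set B : ι → F := fun j => if j ∈ S then 0 else u j with hB
  set v : ι → F := fun j => if j ∈ S then -u j else u j with hvdef
  have hv : v ∈ Rset H := flips_mem_R O hu S
  have huAB : u = A + B := funext fun j => by by_cases h : j ∈ S <;> simp [hA, hB, h]
  have hvAB : v = B - A := funext fun j => by by_cases h : j ∈ S <;> simp [hA, hB, hvdef, h]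
  have hAB : A ⬝ᵥ B = 0 := sum_eq_zero fun j _ => by by_cases h : j ∈ S <;> simp [hA, hB, h]
  have hBA : B ⬝ᵥ A = 0 := by rw [dotProduct_comm, hAB]
  set c := A ⬝ᵥ A with hc
  have hBB : B ⬝ᵥ B = 1 - c := by
    have := huu
    rw [huAB, add_dotProduct, dotProduct_add, dotProduct_add, hAB, hBA, ← hc] at this
    linear_combination this
  have huv : u ⬝ᵥ v = 1 - 2 * c := by
    rw [huAB, hvAB, add_dotProduct, dotProduct_sub, dotProduct_sub, hAB, hBA, ← hc, hBB]; ring
  have supA : sup' A = S := sup_of_eq O (u := u) (fun j => by by_cases h : j ∈ S <;> simp [hA, h]) hS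
  have hne : ∃ j, A j ≠ 0 := by
    obtain ⟨j, hj⟩ := card_pos.mp (show 0 < S.card by omega)
    exact ⟨j, mem_sup'.mp (supA.symm ▸ hj)⟩
  by_cases hc0 : c = 0
  · -- the part outside is in `R`
    have hqi : sq ι F (v - u) = 0 := by
      rw [sq_apply, sub_dotProduct, dotProduct_sub, dotProduct_sub, dot_unit hv, huu,
        dotProduct_comm v u, huv, hc0]; ring
    have hui : u ⬝ᵥ (v - u) = 0 := by rw [dotProduct_sub, huv, huu, hc0]; ring
    have hE := O.eich_of_pair hu hqi hui (by rwa [add_sub_cancel])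
    have := O.add_smul_mem_R P hu hqi hui hE (2 : F)⁻¹
    refine ⟨_, this, Or.inr ⟨1, one_ne_zero, fun j => ?_⟩⟩
    simp only [Pi.add_apply, Pi.smul_apply, Pi.sub_apply, smul_eq_mul, hvdef, one_mul]
    by_cases h : j ∈ S
    · simp [h]; field_simp; ring
    · simp [h]
  by_cases hc1 : c = 1
  · -- the part inside is in `R`
    have hv' := O.neg_mem_R hv
    have hqi : sq ι F (-v - u) = 0 := by
      rw [sq_apply]
      simp only [sub_dotProduct, dotProduct_sub, neg_dotProduct, dotProduct_neg, dot_unit hv, huu,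
        dotProduct_comm v u, huv, hc1]
      ring
    have hui : u ⬝ᵥ (-v - u) = 0 := by rw [dotProduct_sub, dotProduct_neg, huv, huu, hc1]; ring
    have hE := O.eich_of_pair hu hqi hui (by rwa [add_sub_cancel])
    have := O.add_smul_mem_R P hu hqi hui hE (2 : F)⁻¹
    refine ⟨_, this, Or.inl (sup_of_eq O (u := u) (fun j => ?_) hS)⟩
    simp only [Pi.add_apply, Pi.smul_apply, Pi.sub_apply, Pi.neg_apply, smul_eq_mul, hvdef]
    by_cases h : j ∈ S
    · simp [h]
    · simp [h]; field_simp; ring
  have hBc : (1 : F) - c ≠ 0 := sub_ne_zero.mpr (Ne.symm hc1)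
  have hf : (u ⬝ᵥ v) * (u ⬝ᵥ v) ≠ 1 := by
    rw [huv]
    intro h
    have : (2 * 2) * (c * (1 - c)) = 0 := by linear_combination -h
    simp [h2, hc0, hBc] at this
  rcases dihedral_two P O hu hv hf with hz | ⟨w, hw, k, hk⟩
  · rw [huAB, hvAB, show A + B + (B - A) = (2 : F) • B by module,
      show A + B - (B - A) = (2 : F) • A by module, rf_smul h2, rf_smul h2] at hz
    set z := rf (sq ι F) B * rf (sq ι F) A
    have hzap : ∀ j ∈ S, z.1 (bv j) = bv j - (2 * u j / c) • A := fun j hj => by
      rw [coe_mul_apply, rf_sq_apply A, dot_bv, ← hc, show A j = u j by simp [hA, hj], rf_sq_apply B,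
        dotProduct_sub, dotProduct_smul, dot_bv, hBA, show B j = 0 by simp [hB, hj]]
      simp
    have hzl : z.1 (bv l) = (1 : F) • bv l := by
      have hlA : A l = 0 := by by_cases h : l ∈ S <;> simp [hA, h, hl]
      have hlB : B l = 0 := by by_cases h : l ∈ S <;> simp [hB, h, hl]
      rw [coe_mul_apply, rf_sq_apply A, dot_bv, hlA, mul_zero, zero_div, zero_smul, sub_zero,
        rf_sq_apply B, dot_bv, hlB, mul_zero, zero_div, zero_smul, sub_zero, one_smul]
    obtain ⟨j, hj, hjne⟩ : ∃ j ∈ S, 1 - 2 * u j / c * u j ≠ 0 := by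
      by_contra h
      simp only [not_exists, not_and, not_not] at h
      have hsum : ∑ j ∈ S, u j * u j = c := by
        rw [hc, dotProduct, ← sum_subset (subset_univ S) (fun j _ hj => by simp [hA, hj])]
        exact sum_congr rfl fun j hj => by simp [hA, hj]
      have hall : ∀ j ∈ S, 2 * (u j * u j) = c := fun j hj => by
        have := h j hj
        field_simp at this
        linear_combination -this
      have : 2 * c = 3 * c := by
        rw [← hsum, mul_sum, hsum, sum_congr rfl hall, sum_const, hS3, nsmul_eq_mul]; simp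
      exact hc0 (by linear_combination -this)
    refine ⟨_, O.map_mem_R hz (b := l) (a := l) (s := 1) hzl (O.bv_mem_R j),
      Or.inl (sup_of_eq O (u := u) (fun i => ?_) hS)⟩
    rw [hzap j hj]
    by_cases hi : i ∈ S
    · have hui : u i ≠ 0 := mem_sup'.mp (hS hi)
      have huj : u j ≠ 0 := mem_sup'.mp (hS hj)
      by_cases hij : i = j
      · subst hij; simp [hA, hi, hui, hjne]
      · simp [hA, hi, hij, hui, huj, hc0, h2]
    · simp [hA, hi, show i ≠ j from fun e => hi (e ▸ hj)]
  · have hk0 : k ≠ 0 := fun h0 => by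
      have h1 := dot_unit hw
      rcases hk with h | h <;> simp [h, h0] at h1
    rcases hk with h | h
    · refine ⟨w, hw, Or.inr ⟨2 * k, mul_ne_zero h2 hk0, fun j => ?_⟩⟩
      rw [h, huAB, hvAB]
      by_cases hj : j ∈ S <;> simp [hA, hB, hj]; ring
    · refine ⟨w, hw, Or.inl (sup_of_eq O (u := u) (fun j => ?_) hS)⟩
      rw [h, huAB, hvAB]
      by_cases hj : j ∈ S <;> simp [hA, hB, hj, hk0]
      rw [← two_mul]
      simp [h2]

/-- A short vector. -/
theorem short_star [Finite F] {u : ι → F} (hu : u ∈ Rset H) (h3 : 3 ≤ (sup' u).card)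
    (hle : (sup' u).card + 4 ≤ Fintype.card ι) : ∃ i d, Star H i d := by
  classical
  obtain ⟨T, hT, hT4⟩ := exists_subset_card_eq (s := univ \ sup' u) (n := 4) (by
    rw [card_sdiff_of_subset (subset_univ _), card_univ]; omega)
  obtain ⟨l, o, d, d', hlo, hld, hld', hod, hod', hdd, rfl⟩ := card_eq_four.mp hT4
  simp only [insert_subset_iff, singleton_subset_iff, mem_sdiff, mem_univ, true_and, mem_sup',
    not_not] at hT
  obtain ⟨a, ha⟩ := card_pos.mp (show 0 < (sup' u).card by omega)
  obtain ⟨b, hb, hb'⟩ := exists_mem_notMem_of_card_lt_card (s := {a}) (t := sup' u)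
    (by rw [card_singleton]; omega)
  obtain ⟨c, hc, hc'⟩ := exists_mem_notMem_of_card_lt_card (s := {a, b}) (t := sup' u)
    (card_le_two.trans_lt (by omega))
  simp only [mem_insert, mem_singleton, not_or] at hb' hc'
  rw [mem_sup'] at ha hb hc
  exact exists_star_of_vector O P hu (Ne.symm hb') ha hb hT.1 hT.2.1 hT.2.2.1 hT.2.2.2 hlo hld
    hld' hod hod' hdd (Or.inr ⟨c, hc'.1, hc'.2, hc⟩)

/-- Two coordinates with different squares. -/
theorem two_star [Finite F] {u : ι → F} (hu : u ∈ Rset H) {a b : ι} (hab : a ≠ b)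
    (hsup : sup' u = {a, b}) (hne : u a * u a ≠ u b * u b) : ∃ i d, Star H i d := by
  classical
  have hn := O.card
  obtain ⟨T, hT, hT4⟩ := exists_subset_card_eq (s := univ \ sup' u) (n := 4) (by
    rw [card_sdiff_of_subset (subset_univ _), card_univ, hsup, card_pair hab]; omega)
  obtain ⟨l, o, d, d', hlo, hld, hld', hod, hod', hdd, rfl⟩ := card_eq_four.mp hT4
  simp only [insert_subset_iff, singleton_subset_iff, mem_sdiff, mem_univ, true_and, mem_sup',
    not_not] at hT
  have ha : u a ≠ 0 := mem_sup'.mp (by rw [hsup]; simp)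
  have hb : u b ≠ 0 := mem_sup'.mp (by rw [hsup]; simp)
  refine exists_star_of_vector O P hu hab ha hb hT.1 hT.2.1 hT.2.2.1 hT.2.2.2 hlo hld hld' hod hod'
    hdd (Or.inl fun h => hne ?_)
  have h1 := dot_unit hu
  rw [dotProduct, ← sum_subset (subset_univ {a, b}) (fun j _ hj => by
    rw [← hsup, mem_sup', not_not] at hj; rw [hj, zero_mul]), sum_pair hab] at h1
  linear_combination h - h1

/-- Five coordinates, not all of the same square. -/
theorem five_unequal [Finite F] {u : ι → F} (hu : u ∈ Rset H) (h5 : (sup' u).card = 5) {a b : ι}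
    (ha : u a ≠ 0) (hb : u b ≠ 0) (hne : u a * u a ≠ u b * u b) : ∃ i d, Star H i d := by
  classical
  have hn := O.card
  have hab : a ≠ b := fun e => hne (by rw [e])
  have hsub : ({a, b} : Finset ι) ⊆ sup' u := by simp [insert_subset_iff, mem_sup', ha, hb]
  obtain ⟨l, hl⟩ := exists_notMem (n := 5) (by omega) (sup' u) h5.le
  rw [mem_sup', not_not] at hl
  have hS : (sup' u \ {a, b}).card = 3 := by
    rw [card_sdiff_of_subset hsub, h5, card_pair hab]
  obtain ⟨w, hw, h | ⟨k, hk, h⟩⟩ := split3 P O hu hl sdiff_subset hS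
  · exact short_star P O hw (by rw [h, hS]) (by rw [h, hS]; omega)
  · have hwj : ∀ j, w j = k * if j = a ∨ j = b then u j else 0 := fun j => by
      rw [h]
      by_cases hj : j = a ∨ j = b
      · rcases hj with rfl | rfl <;> simp
      · rw [if_neg hj]
        by_cases hju : u j = 0
        · by_cases h' : j ∈ sup' u \ {a, b} <;> simp [h', hju]
        · rw [if_pos (mem_sdiff.mpr ⟨mem_sup'.mpr hju, by simpa using hj⟩)]
    refine two_star P O hw hab ?_ fun e => hne ?_
    · ext j
      rw [mem_sup', hwj]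
      by_cases hj : j = a ∨ j = b
      · rcases hj with rfl | rfl <;> simp [hk, ha, hb]
      · simp [hj, not_or.mp hj]
    · rw [hwj, hwj] at e
      simp at e
      exact mul_left_cancel₀ (mul_ne_zero hk hk) (by linear_combination e)

/-- Four coordinates. -/
theorem four_star [Finite F] {u : ι → F} (hu : u ∈ Rset H) (h4 : (sup' u).card = 4) :
    ∃ i d, Star H i d := by
  classical
  have h2 := P.two_ne
  have hn := O.card
  have huu := dot_unit hu
  obtain ⟨l, hl⟩ := exists_notMem (n := 4) (by omega) (sup' u) h4.le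
  obtain ⟨o, ho⟩ := exists_notMem (n := 5) (by omega) (insert l (sup' u))
    ((card_insert_le _ _).trans (by omega))
  simp only [mem_insert, not_or, mem_sup', not_not] at ho
  rw [mem_sup', not_not] at hl
  obtain ⟨hol, ho⟩ := ho
  by_cases hone : ∃ a ∈ sup' u, u a * u a = 1
  · obtain ⟨a, ha, h1⟩ := hone
    obtain ⟨b, hb, hb'⟩ := exists_mem_notMem_of_card_lt_card (s := {a}) (t := sup' u)
      (by rw [card_singleton]; omega)
    exact exists_star_of_sq_one O hu h1 (fun e => hb' (by simp [e])) (mem_sup'.mp hb)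
      (Ne.symm hol) hl ho
  simp only [not_exists, not_and] at hone
  -- the vector with five coordinates
  have mk : ∀ a, u a ≠ 0 → 2 * (u a * u a) ≠ 1 → ∃ w ∈ Rset H, (sup' w).card = 5 ∧
      w a = -(2 * (1 - u a * u a)) * u a ∧ w l = u a ∧
      ∀ b, u b ≠ 0 → b ≠ a → w b = (2 * (u a * u a) - 1) * u b := by
    intro a ha ha2
    have hla : l ≠ a := fun e => ha (e ▸ hl)
    have hoa : o ≠ a := fun e => ha (e ▸ ho)
    set v := (cyc (F := F) l o a).1 u with hvdef
    have hv : v ∈ Rset H := O.cyc_mem_R h2 (Ne.symm hol) hoa hla hu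
    have e : v = u - u a • bv a + u a • bv l := funext fun j => by
      rw [hvdef, cyc_apply h2 (Ne.symm hol) hoa hla]
      by_cases h1 : j = l
      · subst h1; simp [hl, hla]
      · by_cases h3 : j = o
        · subst h3; simp [h1, hl, ho, hoa]
        · by_cases h5 : j = a
          · subst h5; simp [h1, h3, ho]
          · simp [h1, h3, h5]
    have huv : u ⬝ᵥ v = 1 - u a * u a := by
      rw [e]
      simp only [dotProduct_add, dotProduct_sub, dotProduct_smul, dot_bv, smul_eq_mul, huu, hl]
      ring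
    refine ⟨_, O.refl_mem_R hu hv, ?_, ?_, ?_, fun b hb hba => ?_⟩
    · have hins : sup' ((rf (sq ι F) u).1 v) = insert l (sup' u) := by
        ext j
        rw [mem_sup', rf_unit_apply hu.1, huv, e]
        simp only [mem_insert, mem_sup', Pi.sub_apply, Pi.add_apply, Pi.smul_apply, smul_eq_mul]
        by_cases h1 : j = l
        · subst h1; simp [hl, hla, ha]
        by_cases h3 : j = a
        · subst h3
          simp [h1, ha, h2]
          exact sub_ne_zero.mpr (Ne.symm (hone j (mem_sup'.mpr ha)))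
        · simp [h1, h3]
          by_cases h5 : u j = 0
          · simp [h5]
          · simp [h5]
            intro h6
            exact ha2 (sub_eq_zero.mp ((mul_eq_zero.mp (show (2 * (u a * u a) - 1) * u j = 0 by
              linear_combination h6)).resolve_right h5))
      rw [hins, card_insert_of_notMem (by simp [mem_sup', hl]), h4]
    · rw [rf_unit_apply hu.1, huv, e]; simp [hla.symm]
    · rw [rf_unit_apply hu.1, huv, e]; simp [hl, hla]
    · have hlb : b ≠ l := fun e' => hb (e' ▸ hl)
      rw [rf_unit_apply hu.1, huv, e]; simp [hlb, hba]; ring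
  by_cases hgood : ∃ a ∈ sup' u, 2 * (u a * u a) ≠ 1 ∧ 2 * (u a * u a) ≠ 3
  · obtain ⟨a, ha, h1, h3⟩ := hgood
    rw [mem_sup'] at ha
    obtain ⟨w, hw, hw5, hwa, hwl, -⟩ := mk a ha h1
    have hx1 := sub_ne_zero.mpr (Ne.symm (hone a (mem_sup'.mpr ha)))
    refine five_unequal P O hw hw5 (a := a) (b := l) ?_ (by rw [hwl]; exact ha) ?_
    · rw [hwa]; simp [h2, hx1, ha]
    · rw [hwa, hwl]
      intro h
      have h5 : (1 - 2 * (u a * u a)) * (3 - 2 * (u a * u a)) = 0 :=
        mul_left_cancel₀ (mul_ne_zero ha ha) (by linear_combination h)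
      rcases mul_eq_zero.mp h5 with h' | h'
      · exact h1 (by linear_combination -h')
      · exact h3 (by linear_combination -h')
  simp only [not_exists, not_and, not_not] at hgood
  obtain ⟨a, ha, ha2⟩ : ∃ a ∈ sup' u, 2 * (u a * u a) ≠ 1 := by
    by_contra h
    simp only [not_exists, not_and, not_not] at h
    have : (2 : F) * 1 = 4 := by
      conv_lhs => rw [← huu, dotProduct, ← sum_subset (subset_univ (sup' u)) (fun j _ hj => by
        rw [mem_sup', not_not] at hj; rw [hj, zero_mul]), mul_sum, sum_congr rfl h, sum_const, h4]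
      simp
    exact h2 (by linear_combination -this)
  have ha3 := hgood a ha ha2
  obtain ⟨b, hb, hb'⟩ := exists_mem_notMem_of_card_lt_card (s := {a}) (t := sup' u)
    (by rw [card_singleton]; omega)
  have hba : b ≠ a := fun e => hb' (by simp [e])
  rw [mem_sup'] at ha
  obtain ⟨w, hw, hw5, -, hwl, hwb⟩ := mk a ha ha2
  have hub := mem_sup'.mp hb
  refine five_unequal P O hw hw5 (a := b) (b := l) ?_ (by rw [hwl]; exact ha) ?_
  · rw [hwb b hub hba]; exact mul_ne_zero (sub_ne_zero.mpr ha2) hub
  · rw [hwb b hub hba, hwl]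
    intro h
    have h8 : 8 * (u b * u b) = 3 := by
      linear_combination 2 * h + (1 - 2 * (u b * u b) * (2 * (u a * u a) + 1)) * ha3
    by_cases hb2 : 2 * (u b * u b) = 1
    · exact one_ne_zero (show (1 : F) = 0 by linear_combination h8 - 4 * hb2)
    · have hb3 := hgood b hb hb2
      have h9 : (3 : F) * 3 = 0 := by linear_combination h8 - 4 * hb3
      have h30 : (3 : F) = 0 := mul_self_eq_zero.mp h9
      rw [h30] at ha3
      exact mul_ne_zero h2 (mul_ne_zero ha ha) ha3

/-- Five coordinates. -/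
theorem five_star [Finite F] {u : ι → F} (hu : u ∈ Rset H) (h5 : (sup' u).card = 5) :
    ∃ i d, Star H i d := by
  classical
  have h2 := P.two_ne
  have huu := dot_unit hu
  obtain ⟨a, ha⟩ := card_pos.mp (show 0 < (sup' u).card by omega)
  rw [mem_sup'] at ha
  by_cases hneq : ∃ b, u b ≠ 0 ∧ u a * u a ≠ u b * u b
  · obtain ⟨b, hb, hab⟩ := hneq
    exact five_unequal P O hu h5 ha hb hab
  simp only [not_exists, not_and, not_not] at hneq
  set x := u a * u a with hx
  have h5x : 5 * x = 1 := by
    conv_rhs => rw [← huu, dotProduct, ← sum_subset (subset_univ (sup' u)) (fun j _ hj => by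
      rw [mem_sup', not_not] at hj; rw [hj, zero_mul]),
      sum_congr rfl (fun j hj => (hneq j (mem_sup'.mp hj)).symm), sum_const, h5]
    simp
  have hx0 : x ≠ 0 := mul_ne_zero ha ha
  have h3 : (3 : F) ≠ 0 := fun h3 => by
    haveI := P.char
    have hp3 : p = 3 := by
      have hd : p ∣ 3 := (CharP.cast_eq_zero_iff F p 3).mp (by exact_mod_cast h3)
      exact (Nat.prime_dvd_prime_iff_eq P.prime Nat.prime_three).mp hd
    have h := P.pow_eq (u a)
    rw [hp3] at h
    have hx1 : x = 1 := mul_left_cancel₀ ha (by rw [mul_one, hx]; linear_combination h)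
    rw [hx1] at h5x
    exact mul_ne_zero h2 h2 (by linear_combination h5x)
  obtain ⟨b, hb, hb'⟩ := exists_mem_notMem_of_card_lt_card (s := {a}) (t := sup' u)
    (by rw [card_singleton]; omega)
  have hba : b ≠ a := fun e => hb' (by simp [e])
  have hub := mem_sup'.mp hb
  set v := (rf (sq ι F) (bv a)).1 u with hv
  have hvR : v ∈ Rset H := O.flip_mem_R hu a
  have e : v = u - (2 * u a) • bv a := funext fun j => by
    rw [hv, rf_bv_apply]
    by_cases h : j = a
    · subst h; simp; ring
    · simp [h]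
  have huv : u ⬝ᵥ v = 1 - 2 * x := by
    rw [e]; simp only [dotProduct_sub, dotProduct_smul, dot_bv, smul_eq_mul, huu, hx]; ring
  set w := (rf (sq ι F) u).1 v with hw
  have hwR : w ∈ Rset H := O.refl_mem_R hu hvR
  have hwj : ∀ j, w j = if j = a then -((3 - 4 * x) * u a) else -x * u j := fun j => by
    rw [hw, rf_unit_apply hu.1, huv, e]
    by_cases h : j = a
    · subst h; simp; ring
    · simp [h]; linear_combination u j * h5x
  by_cases h11 : 3 - 4 * x = 0
  · refine four_star P O hwR ?_
    have : sup' w = (sup' u).erase a := by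
      ext j
      rw [mem_sup', mem_erase, mem_sup', hwj]
      by_cases h : j = a
      · subst h; simp [h11]
      · simp [h, hx0]
    rw [this, card_erase_of_mem (mem_sup'.mpr ha), h5]
  · have hs : sup' w = sup' u := by
      ext j
      rw [mem_sup', mem_sup', hwj]
      by_cases h : j = a
      · subst h; simp [h11, ha]
      · simp [h, hx0]
    refine five_unequal P O hwR (by rw [hs, h5]) (a := a) (b := b)
      (mem_sup'.mp (hs ▸ mem_sup'.mpr ha)) (mem_sup'.mp (hs ▸ hb)) ?_
    rw [hwj, hwj, if_pos rfl, if_neg hba]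
    intro h
    have h6 : ((3 - 4 * x - x) * (3 - 4 * x + x)) * x = 0 := by
      linear_combination h + (3 - 4 * x) * (3 - 4 * x) * hx - x * x * hneq b hub
    rcases mul_eq_zero.mp ((mul_eq_zero.mp h6).resolve_right hx0) with h7 | h7
    · exact h2 (by linear_combination h7 + h5x)
    · have hx1 : x = 1 := mul_left_cancel₀ h3 (by linear_combination -h7)
      rw [hx1] at h5x
      exact mul_ne_zero h2 h2 (by linear_combination h5x)

/-- A vector with a vanishing coordinate and at least three others. -/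
theorem star_of_zero [Finite F] : ∀ n (u : ι → F), u ∈ Rset H → (sup' u).card = n → 3 ≤ n →
    ∀ l, u l = 0 → ∃ i d, Star H i d := by
  classical
  intro n
  induction n using Nat.strong_induction_on with
  | _ n ih =>
    intro u hu hn h3 l hl
    have hc := O.card
    by_cases hle : n + 4 ≤ Fintype.card ι
    · exact short_star P O hu (by omega) (by omega)
    by_cases h6 : 6 ≤ n
    swap
    · rcases (show n = 4 ∨ n = 5 by omega) with h | h
      · exact four_star P O hu (by omega)
      · exact five_star P O hu (by omega)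
    obtain ⟨S, hS, hS3⟩ := exists_subset_card_eq (s := sup' u) (n := 3) (by omega)
    obtain ⟨w, hw, h | ⟨k, hk, h⟩⟩ := split3 P O hu hl hS hS3
    · exact short_star P O hw (by rw [h, hS3]) (by rw [h, hS3]; omega)
    · have hsw : sup' w = sup' u \ S := by
        ext j
        rw [mem_sup', mem_sdiff, mem_sup', h]
        by_cases hj : j ∈ S <;> simp [hj, hk]
      have hcard : (sup' w).card = n - 3 := by rw [hsw, card_sdiff_of_subset hS, hn, hS3]
      exact ih (n - 3) (by omega) w hw hcard (by omega) l (by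
        rw [h]; by_cases hj : l ∈ S <;> simp [hj, hl])

end Cfsg.Agent.ODec35
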