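import Cfsg.Agent.ODec24.Main
import Cfsg.Agent.ODec35.NC
import Cfsg.Agent.ODec35.Split

/-!
The elements of `Ω` permuting the lines of an orthogonal decomposition form a maximal subgroup,
in odd dimension at least seven and in every dimension at least ten (helper35).
-/

set_option autoImplicit false
set_option linter.unusedSectionVars false

namespace Cfsg.Agent.ODec35

open Cfsg.Agent.UnitaryOrthogonal Cfsg.Agent.ODec24
open QuadraticMap hiding sq sq_apply
open Finset hiding sup' mem_sup'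
open scoped Matrix

section Coordinates

variable {ι : Type} [Fintype ι] [DecidableEq ι] {F : Type*} [Field F] [Finite F] {p : ℕ}
variable {H : Subgroup (orth (sq ι F))} (P : PrimeOdd F p) (O : Over H)
include P O

/-- A non-monomial element of `H` can be taken to fix a coordinate vector. -/
theorem exists_fix (hn : Odd (Fintype.card ι) ∨ 10 ≤ Fintype.card ι) {g : orth (sq ι F)}
    (hg : g ∈ H) (hgm : ¬ Mono g) :
    ∃ (l : ι) (g' : orth (sq ι F)), g' ∈ H ∧ ¬ Mono g' ∧ g'.1 (bv l) = bv l := by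
  classical
  have h2 := P.two_ne
  have h7 := O.card
  have hfix : Fixes univ g := fun j hj => absurd (mem_univ j) hj
  have hNC : ¬ NC H univ := fun hNC => hgm (by
    rcases hn with h | h
    · exact all_mono_odd P O h7 h hNC hg
    · exact all_mono P O (by rw [card_univ]; exact h) hNC hg hfix)
  simp only [NC, not_forall] at hNC
  obtain ⟨g₁, hg₁, -, i, -, a, c, hc, hm⟩ := hNC
  have hcc := ODec24.mul_self_eq_one_of_apply hc
  obtain ⟨o, -, ho'⟩ := exists_mem_notMem_of_card_lt_card (s := {i, a}) (t := univ)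
    (card_le_two.trans_lt (by rw [card_univ]; omega))
  simp only [mem_insert, mem_singleton, not_or] at ho'
  obtain ⟨k, hk, hkm, hka⟩ : ∃ k ∈ H, Mono k ∧ k.1 (bv a) = (bv i : ι → F) := by
    by_cases hia : a = i
    · exact ⟨1, one_mem _, fun b => ⟨b, 1, by simp⟩, by rw [hia]; rfl⟩
    · exact ⟨cyc i o a, O.cyc_mem (Ne.symm ho'.1) ho'.2 (Ne.symm hia),
        mono_cyc P (Ne.symm ho'.1) ho'.2, cyc_bv h2 (Ne.symm ho'.1) ho'.2 (Ne.symm hia)⟩
  obtain ⟨s, hs, hsm, hsi⟩ : ∃ s ∈ H, Mono s ∧ s.1 (c • bv i) = (bv i : ι → F) := by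
    rcases mul_self_eq_one_iff.mp hcc with e | e
    · exact ⟨1, one_mem _, fun b => ⟨b, 1, by simp⟩, by rw [e, one_smul]; rfl⟩
    · refine ⟨rf (sq ι F) (bv i) * rf (sq ι F) (bv o), O.pair i o,
        (mono_rf_bv i).mul (mono_rf_bv o), ?_⟩
      rw [e, coe_mul_apply, neg_one_smul, map_neg, map_neg,
        rf_apply_of_polar (x := bv i) (by rw [polar_sq, bv_dot]; simp [ho'.1]),
        rf_apply_self (by rw [sq_bv]; exact one_ne_zero), neg_neg]
  refine ⟨i, s * k * g₁, mul_mem (mul_mem hs hk) hg₁, fun h => hm ?_, ?_⟩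
  · have := (((hsm.mul hkm).inv h2).mul h)
    rwa [inv_mul_cancel_left] at this
  · rw [coe_mul_apply, coe_mul_apply, hc, map_smul, hka, hsi]

/-- A vector of `R` with a vanishing coordinate and three others. -/
theorem exists_three (hn : Odd (Fintype.card ι) ∨ 10 ≤ Fintype.card ι) {g : orth (sq ι F)}
    (hg : g ∈ H) (hgm : ¬ Mono g) :
    ∃ u ∈ Rset H, ∃ l, u l = 0 ∧ 3 ≤ (sup' u).card := by
  classical
  have h2 := P.two_ne
  have h7 := O.card
  obtain ⟨l, g, hg, hgm, hgl⟩ := exists_fix P O hn hg hgm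
  set I := (univ : Finset ι).erase l with hI
  have hIc : I.card + 1 = Fintype.card ι := by
    rw [hI, card_erase_of_mem (mem_univ l), card_univ]; omega
  have hgI : Fixes I g := fun j hj => by
    have hjl : j = l := by
      by_contra h
      exact hj (mem_erase.mpr ⟨h, mem_univ j⟩)
    rw [hjl]; exact hgl
  have hl : l ∉ I := notMem_erase l univ
  have mapR : ∀ r ∈ Rset H, g.1 r ∈ Rset H := fun r hr =>
    O.map_mem_R hg (b := l) (a := l) (s := 1) (by rw [hgl, one_smul]) hr
  have colR : ∀ a, g.1 (bv a) ∈ Rset H := fun a => mapR _ (O.bv_mem_R a)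
  by_contra hno
  simp only [not_exists, not_and, not_le] at hno
  have small : ∀ r ∈ Rset H, r l = 0 → ∀ x y z : ι, x ≠ y → x ≠ z → y ≠ z → r x ≠ 0 → r y ≠ 0 →
      r z ≠ 0 → False := by
    intro r hr hrl x y z hxy hxz hyz hx hy hz
    have h3 : ({x, y, z} : Finset ι) ⊆ sup' r := by
      simp [insert_subset_iff, mem_sup', hx, hy, hz]
    have h3c : ({x, y, z} : Finset ι).card = 3 := card_eq_three.mpr ⟨x, y, z, hxy, hxz, hyz, rfl⟩
    have := card_le_card h3
    have := hno r hr l hrl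
    omega
  have zero : ∀ a ∈ I, g.1 (bv a) l = 0 := fun a ha => col_zero P O hgI ha l hl
  have hroot : ∀ a ∈ I, ∀ x y, x ≠ y → g.1 (bv a) x ≠ 0 → g.1 (bv a) y ≠ 0 →
      ∀ j, j ≠ x → j ≠ y → g.1 (bv a) j = 0 := by
    intro a ha x y hxy hx hy j h1 h3
    by_contra hj
    exact small _ (colR a) (zero a ha) x y j hxy (Ne.symm h1) (Ne.symm h3) hx hy hj
  obtain ⟨a, ha, x, y, hxy, hx, hy⟩ : ∃ a ∈ I, ∃ x y, x ≠ y ∧ g.1 (bv a) x ≠ 0 ∧
      g.1 (bv a) y ≠ 0 := by
    by_contra h
    simp only [not_exists, not_and] at h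
    refine hgm fun a => ?_
    by_cases ha : a ∈ I
    · obtain ⟨b, hb⟩ : ∃ b, g.1 (bv a) b ≠ 0 := by
        by_contra hz
        simp only [not_exists, not_not] at hz
        have := map_form g (bv a : ι → F)
        rw [show g.1 (bv a) = 0 from funext hz, QuadraticMap.map_zero, sq_bv] at this
        exact zero_ne_one this
      refine ⟨b, g.1 (bv a) b, funext fun j => ?_⟩
      by_cases hj : j = b
      · subst hj; simp
      · simp [hj]
        by_contra hjne
        exact h a ha j b hj hjne hb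
    · exact ⟨a, 1, by rw [hgI a ha, one_smul]⟩
  have hrest := hroot a ha x y hxy hx hy
  have horth : ∀ b, b ≠ a → g.1 (bv a) x * g.1 (bv b) x + g.1 (bv a) y * g.1 (bv b) y = 0 := by
    intro b hb
    have e := dot_map g h2 (bv a) (bv b)
    rw [bv_dot] at e
    rw [show (bv b : ι → F) a = 0 by simp [Ne.symm hb]] at e
    rw [dotProduct, ← sum_subset (subset_univ {x, y}) (fun j _ hj => by
      simp only [mem_insert, mem_singleton, not_or] at hj
      rw [hrest j hj.1 hj.2, zero_mul]), sum_pair hxy] at e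
    exact e
  obtain ⟨m, hm, hma, hmx, hmy⟩ : ∃ m ∈ I, m ≠ a ∧ g.1 (bv m) x = 0 ∧ g.1 (bv m) y = 0 := by
    set J := I.filter fun b => g.1 (bv b) x ≠ 0 ∨ g.1 (bv b) y ≠ 0 with hJ
    have hJsub : ∀ b ∈ J, sup' (g.1 (bv b)) ⊆ {x, y} := by
      intro b hb j hj
      rw [mem_sup'] at hj
      obtain ⟨hbI, hb'⟩ := mem_filter.mp hb
      by_contra hjxy
      simp only [mem_insert, mem_singleton, not_or] at hjxy
      by_cases hba : b = a
      · subst hba; exact hj (hrest j hjxy.1 hjxy.2)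
      have e := horth b hba
      have both : g.1 (bv b) x ≠ 0 ∧ g.1 (bv b) y ≠ 0 := by
        rcases hb' with h | h
        · refine ⟨h, fun h0 => ?_⟩
          rw [h0, mul_zero, add_zero] at e
          exact mul_ne_zero hx h e
        · refine ⟨fun h0 => ?_, h⟩
          rw [h0, mul_zero, zero_add] at e
          exact mul_ne_zero hy h e
      exact hj (hroot b hbI x y hxy both.1 both.2 j hjxy.1 hjxy.2)
    have hJcard : J.card ≤ 2 := (card_cols_le P hJsub).trans card_le_two
    obtain ⟨m, hm, hm'⟩ := exists_mem_notMem_of_card_lt_card (s := J) (t := I) (by omega)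
    rw [hJ, mem_filter] at hm'
    simp only [hm, true_and, not_or, not_not] at hm'
    exact ⟨m, hm, fun e => hx (e ▸ hm'.1), hm'.1, hm'.2⟩
  obtain ⟨r, hr, hra, hrm, hrr⟩ : ∃ r ∈ Rset H, r a ≠ 0 ∧ r m ≠ 0 ∧
      ∀ j, j ≠ a → j ≠ m → r j = 0 := by
    have step1 : ∃ r ∈ Rset H, ∃ e, e ≠ a ∧ r a ≠ 0 ∧ r e ≠ 0 ∧
        ∀ j, j ≠ a → j ≠ e → r j = 0 := by
      by_cases hax : a = x
      · exact ⟨_, colR a, y, by rw [hax]; exact hxy.symm, by rwa [← hax] at hx, hy,
          fun j h1 h3 => hrest j (fun e => h1 (e.trans hax.symm)) h3⟩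
      by_cases hay : a = y
      · exact ⟨_, colR a, x, by rw [hay]; exact hxy, by rwa [← hay] at hy, hx,
          fun j h1 h3 => hrest j h3 (fun e => h1 (e.trans hay.symm))⟩
      obtain ⟨r, hr, h1, h3, h4⟩ := move_one P O (colR a) hax hay hxy hx hy hrest
      exact ⟨r, hr, y, Ne.symm hay, h1, h3, h4⟩
    obtain ⟨r, hr, e, hea, hra, hre, hrr⟩ := step1
    by_cases hem : e = m
    · exact ⟨r, hr, hra, hem ▸ hre, fun j h1 h3 => hrr j h1 (hem ▸ h3)⟩
    obtain ⟨r', hr', h1, h3, h4⟩ := move_one P O hr (c := e) (d := a) (t := m) (Ne.symm hem) hma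
      hea hre hra (fun j h1 h3 => hrr j h3 h1)
    exact ⟨r', hr', h3, h1, fun j h5 h6 => h4 j h6 h5⟩
  have hgr : ∀ j, g.1 r j = r a * g.1 (bv a) j + r m * g.1 (bv m) j := by
    intro j
    have e : r = r a • bv a + r m • bv m := funext fun i => by
      by_cases h1 : i = a
      · subst h1; simp [Ne.symm hma]
      · by_cases h3 : i = m
        · subst h3; simp [h1]
        · simp [h1, h3, hrr i h1 h3]
    conv_lhs => rw [e]
    simp [map_add, map_smul]
  obtain ⟨z, hz⟩ : ∃ z, g.1 (bv m) z ≠ 0 := by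
    by_contra hz
    simp only [not_exists, not_not] at hz
    have := map_form g (bv m : ι → F)
    rw [show g.1 (bv m) = 0 from funext hz, QuadraticMap.map_zero, sq_bv] at this
    exact zero_ne_one this
  have hzx : z ≠ x := fun e => hz (e ▸ hmx)
  have hzy : z ≠ y := fun e => hz (e ▸ hmy)
  refine small _ (mapR r hr) ?_ x y z hxy (Ne.symm hzx) (Ne.symm hzy) ?_ ?_ ?_
  · rw [hgr, zero a ha, zero m hm]; simp
  · rw [hgr, hmx, mul_zero, add_zero]; exact mul_ne_zero hra hx
  · rw [hgr, hmy, mul_zero, add_zero]; exact mul_ne_zero hra hy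
  · rw [hgr, hrest z hzx hzy, mul_zero, zero_add]; exact mul_ne_zero hrm hz

/-- An overgroup with a non-monomial element contains `Ω`. -/
theorem eichGroup_le_of_over (hn : Odd (Fintype.card ι) ∨ 10 ≤ Fintype.card ι)
    {g : orth (sq ι F)} (hg : g ∈ H) (hgm : ¬ Mono g) : eichGroup (sq ι F) ≤ H := by
  obtain ⟨u, hu, l, hl, h3⟩ := exists_three P O hn hg hgm
  obtain ⟨i, d, S⟩ := star_of_zero P O _ u hu rfl h3 l hl
  exact S.eichGroup_le O P

end Coordinates

section Frame

variable {ι : Type} [Fintype ι] [DecidableEq ι] {F : Type*} [Field F] [Fintype F] {p t : ℕ}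
variable {Q : QuadraticForm F (ι → F)} {D : Fin t → Submodule F (ι → F)}

/-- The lines stabiliser is maximal in `Ω`, in odd dimension at least seven and in every dimension
at least ten. -/
theorem lines_isMaximalIn (P : PrimeOdd F p) (hnd : PolarND Q)
    (hn : (Odd (Fintype.card ι) ∧ 7 ≤ Fintype.card ι) ∨ 10 ≤ Fintype.card ι)
    (hD : Geo.IsOrthogonalMDecomposition ⇑Q 1 D) :
    Geo.IsMaximalIn (Geo.omegaGL ⇑Q) (Geo.decompositionStabilizer D ⊓ Geo.omegaGL ⇑Q) := by
  obtain ⟨L, c, hc, hQL, hDL⟩ := exists_frame P hD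
  have hcard : Fintype.card (Fin t) = Fintype.card ι := by
    have := L.finrank_eq
    simpa [Module.finrank_fintype_fun_eq_card] using this
  refine lines_isMaximalIn_of_core P hnd (by omega)
    (fun H O g hg hgm => ODec35.eichGroup_le_of_over P O ?_ hg hgm) hD
  rw [hcard]
  exact hn.imp And.left id

end Frame

end Cfsg.Agent.ODec35
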